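import Mathlib
import Cfsg.Agent.S0059
set_option linter.all false

/-!
# Glauberman's lemma and its consequences, for groups of automorphisms (helper566)

* `glaub` : `A` acts on the group `H` and on the set `Y`, `H` acts on `Y` compatibly; on an invariant set `S` on which
  `H` is transitive, `A` has a fixed point and `C_H(A)` is transitive on the fixed points (coprime orders, `A` or `H`
  solvable);
* `Fx A` : the fixed points of a group of automorphisms;
* `exists_fixed_coset` : an `A`-invariant coset `g H` of an `A`-invariant subgroup contains a fixed point.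
-/

set_option autoImplicit false

namespace Cfsg.Agent.H566

open Subgroup

/-- **Glauberman's lemma.** -/
theorem glaub {A H Y : Type*} [Group A] [Finite A] [Group H] [Finite H]
    (hcop : (Nat.card A).Coprime (Nat.card H)) (hsolv : Group.IsSolvable A ∨ Group.IsSolvable H)
    (φ : A →* MulAut H) (ρ : A →* Equiv.Perm Y) (σ : H →* Equiv.Perm Y)
    (hcomp : ∀ a h y, ρ a (σ h y) = σ (φ a h) (ρ a y)) (S : Set Y) (hne : S.Nonempty)
    (hρ : ∀ a, ∀ y ∈ S, ρ a y ∈ S) (hσ : ∀ h, ∀ y ∈ S, σ h y ∈ S)
    (htr : ∀ x ∈ S, ∀ y ∈ S, ∃ h, σ h x = y) :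
    (∃ x ∈ S, ∀ a, ρ a x = x) ∧
      ∀ x ∈ S, ∀ y ∈ S, (∀ a, ρ a x = x) → (∀ a, ρ a y = y) → ∃ h : H, (∀ a, φ a h = h) ∧ σ h x = y := by
  have hc : ∀ g : A, σ.comp ((MulEquiv.toMonoidHom (φ g))) = (MulAut.conj (ρ g)).toMonoidHom.comp σ := by
    intro g
    ext h y
    simp only [MonoidHom.comp_apply, MulEquiv.toMonoidHom_eq_coe, MonoidHom.coe_coe, MulAut.conj_apply,
      Equiv.Perm.mul_apply]
    rw [hcomp]
    congr 1
    exact ((ρ g).apply_symm_apply y).symm
  obtain ⟨θ, hθ⟩ : ∃ θ : SemidirectProduct H A φ →* Equiv.Perm Y, ∀ g y, θ g y = σ g.left (ρ g.right y) :=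
    ⟨SemidirectProduct.lift σ ρ hc, fun g y => by
      rw [SemidirectProduct.lift, MonoidHom.coe_mk, OneHom.coe_mk, Equiv.Perm.mul_apply]⟩
  have hmem : ∀ g, ∀ y ∈ S, θ g y ∈ S := fun g y hy => by
    rw [hθ]
    exact hσ _ _ (hρ _ _ hy)
  let _ : MulAction (SemidirectProduct H A φ) S :=
    { smul := fun g y => ⟨θ g y.1, hmem g y.1 y.2⟩
      one_smul := fun y => Subtype.ext (by
        show θ 1 y.1 = y.1
        rw [map_one]; rfl)
      mul_smul := fun g h y => Subtype.ext (by
        show θ (g * h) y.1 = θ g (θ h y.1)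
        rw [map_mul]; rfl) }
  have hsm : ∀ (g : SemidirectProduct H A φ) (y : S), ((g • y : S) : Y) = σ g.left (ρ g.right y.1) := fun g y => hθ g y.1
  have : Finite (SemidirectProduct H A φ) := Finite.of_equiv (H × A) (SemidirectProduct.equivProd).symm
  have hcard : Nat.card (SemidirectProduct H A φ) = Nat.card H * Nat.card A := by
    rw [Nat.card_congr (SemidirectProduct.equivProd (φ := φ)), Nat.card_prod]
  obtain ⟨K, hK⟩ : ∃ K : Subgroup (SemidirectProduct H A φ), K = (SemidirectProduct.inl : H →* SemidirectProduct H A φ).range :=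
    ⟨_, rfl⟩
  obtain ⟨L, hL⟩ : ∃ L : Subgroup (SemidirectProduct H A φ), L = (SemidirectProduct.inr : A →* SemidirectProduct H A φ).range :=
    ⟨_, rfl⟩
  have hKn : K.Normal := by
    rw [hK, SemidirectProduct.range_inl_eq_ker_rightHom]
    infer_instance
  have hKc : Nat.card K = Nat.card H := by
    rw [hK]
    exact (Nat.card_congr (MonoidHom.ofInjective SemidirectProduct.inl_injective).toEquiv).symm
  have hLc : Nat.card L = Nat.card A := by
    rw [hL]
    exact (Nat.card_congr (MonoidHom.ofInjective SemidirectProduct.inr_injective).toEquiv).symm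
  have hcompl : Subgroup.IsComplement' K L := by
    apply Subgroup.isComplement'_of_coprime
    · rw [hKc, hLc, hcard]
    · rw [hKc, hLc]
      exact hcop.symm
  have hidx : K.index = Nat.card A := by
    have h1 := K.card_mul_index
    rw [hKc, hcard] at h1
    exact Nat.eq_of_mul_eq_mul_left Nat.card_pos h1
  have hs : Group.IsSolvable K ∨ Group.IsSolvable (SemidirectProduct H A φ ⧸ K) := by
    rcases hsolv with h | h
    · right
      have h1 := hcompl.symm
      have e : (SemidirectProduct H A φ ⧸ K) ≃* L := hcompl.symm.QuotientMulEquiv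
      have e2 : A ≃* L := by
        rw [hL]
        exact MonoidHom.ofInjective SemidirectProduct.inr_injective
      exact Group.isSolvable_of_isSolvable_injective (f := (e.trans e2.symm).toMonoidHom) (e.trans e2.symm).injective
    · left
      have e2 : H ≃* K := by
        rw [hK]
        exact MonoidHom.ofInjective SemidirectProduct.inl_injective
      exact Group.isSolvable_of_isSolvable_injective (f := e2.symm.toMonoidHom) e2.symm.injective
  have hne' : Nonempty S := ⟨⟨hne.some, hne.some_mem⟩⟩
  have htr' : MulAction.IsPretransitive K S := by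
    constructor
    intro x y
    obtain ⟨h, hh⟩ := htr x.1 x.2 y.1 y.2
    refine ⟨⟨SemidirectProduct.inl h, by rw [hK]; exact ⟨h, rfl⟩⟩, ?_⟩
    apply Subtype.ext
    show (((SemidirectProduct.inl h : SemidirectProduct H A φ) • x : S) : Y) = y.1
    rw [hsm, SemidirectProduct.left_inl, SemidirectProduct.right_inl, map_one]
    exact hh
  have hfix : ∀ x : S, (∀ h ∈ L, h • x = x) ↔ ∀ a, ρ a x.1 = x.1 := by
    intro x
    constructor
    · intro h a
      have h1 := congrArg Subtype.val (h (SemidirectProduct.inr a) (by rw [hL]; exact ⟨a, rfl⟩))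
      rwa [hsm, SemidirectProduct.left_inr, SemidirectProduct.right_inr, map_one] at h1
    · intro h g hg
      rw [hL] at hg
      obtain ⟨a, rfl⟩ := hg
      apply Subtype.ext
      rw [hsm, SemidirectProduct.left_inr, SemidirectProduct.right_inr, map_one]
      exact h a
  obtain ⟨⟨x, hx⟩, h2⟩ := S0059.result K L hcompl (by rw [hKc, hidx]; exact hcop.symm) hs htr'
  refine ⟨⟨x.1, x.2, (hfix x).1 hx⟩, ?_⟩
  intro x hx y hy hfx hfy
  obtain ⟨k, hk, e⟩ := h2 ⟨x, hx⟩ ⟨y, hy⟩ ((hfix _).2 hfx) ((hfix _).2 hfy)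
  obtain ⟨hk1, hk2⟩ := Subgroup.mem_inf.1 hk
  rw [hK] at hk1
  obtain ⟨h, rfl⟩ := hk1
  refine ⟨h, fun a => ?_, ?_⟩
  · have h3 := (Subgroup.mem_centralizer_iff.1 hk2) (SemidirectProduct.inr a) (by rw [hL]; exact ⟨a, rfl⟩)
    have h4 : (SemidirectProduct.inr a * SemidirectProduct.inl h * SemidirectProduct.inr a⁻¹ :
        SemidirectProduct H A φ) = SemidirectProduct.inl h := by
      rw [h3, mul_assoc, ← map_mul, mul_inv_cancel, map_one, mul_one]
    have h5 := SemidirectProduct.inl_aut (φ := φ) a h
    rw [h4] at h5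
    exact SemidirectProduct.inl_injective h5
  · have h3 := congrArg Subtype.val e
    rwa [hsm, SemidirectProduct.left_inl, SemidirectProduct.right_inl, map_one] at h3

end Cfsg.Agent.H566
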