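import Mathlib
import Cfsg.Agent.H566.Glaub
import Cfsg.Agent.Schreier.BNGraph
import Cfsg.Agent.Schreier.BNUse
import Cfsg.Agent.Lib.MinNormalNonabelian
import Cfsg.Agent.SignalizersComponents.ComponentExists
import Cfsg.Agent.H256.ZBasic
import Cfsg.Prelude.Def_IsolatedElements
import Cfsg.Agent.Schreier.BNSch
import Cfsg.Prelude.Def_Local
import Cfsg.Agent.FastGrp
import Cfsg.Agent.Prune
set_option linter.all false

section
prune_inst 0x7ffcfefbaff8bddedfff7ffffffddffe39d5dfffffdffb4bfffcfbffffff230a3b65fbaf9df0d8ff5ef7e296b0b87813f97eca3fef6bdc7ffffd5ff45ffbee1fe5f6bf8951de98b40f360fff63f17fce7f3fffffffffffffffffffffffffffbeffffffffffff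

-- part: H566/Fixed
section
set_option linter.all false
open scoped Cfsg.Agent.FastGrp

/-!
# Fixed points of coprime groups of automorphisms (helper566)

* `Fx A` : the fixed points; `Stab A H` : `A` leaves the subgroup `H` invariant;
* `exists_fixed_coset` : an `A`-invariant coset `g H` of an `A`-invariant subgroup contains a fixed point;
* `exists_fixed_orbit` : the orbit version modulo a subgroup.
-/

set_option autoImplicit false

namespace Cfsg.Agent.H566

open Subgroup

variable {K : Type*} [Group K]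

/-- The fixed points of a group of automorphisms. -/
def Fx (A : Subgroup (MulAut K)) : Subgroup K where
  carrier := {k | ∀ α ∈ A, α k = k}
  mul_mem' := fun ha hb α hα => by rw [map_mul, ha α hα, hb α hα]
  one_mem' := fun α _ => map_one α
  inv_mem' := fun ha α hα => by rw [map_inv, ha α hα]

theorem mem_Fx {A : Subgroup (MulAut K)} {k : K} : k ∈ Fx A ↔ ∀ α ∈ A, α k = k := Iff.rfl

/-- `A` leaves `H` invariant. -/
def Stab (A : Subgroup (MulAut K)) (H : Subgroup K) : Prop := ∀ α ∈ A, ∀ h ∈ H, α h ∈ H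

theorem Stab.inf {A : Subgroup (MulAut K)} {H L : Subgroup K} (h1 : Stab A H) (h2 : Stab A L) : Stab A (H ⊓ L) :=
  fun α hα h hh => ⟨h1 α hα h hh.1, h2 α hα h hh.2⟩

theorem Stab.mem_iff {A : Subgroup (MulAut K)} {H : Subgroup K} (h1 : Stab A H) {α : MulAut K} (hα : α ∈ A) {k : K} :
    α k ∈ H ↔ k ∈ H := by
  refine ⟨fun h => ?_, h1 α hα k⟩
  have := h1 α⁻¹ (inv_mem hα) _ h
  rwa [MulAut.inv_apply_self] at this

/-- The restriction to an invariant subgroup. -/
def rest {A : Subgroup (MulAut K)} {H : Subgroup K} (h : Stab A H) : ↥A →* MulAut ↥H where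
  toFun α :=
    { toFun := fun x => ⟨α.1 x.1, h α.1 α.2 x.1 x.2⟩
      invFun := fun x => ⟨α.1⁻¹ x.1, h α.1⁻¹ (inv_mem α.2) x.1 x.2⟩
      left_inv := fun x => Subtype.ext (MulAut.inv_apply_self _ _ _)
      right_inv := fun x => Subtype.ext (MulAut.apply_inv_self _ _ _)
      map_mul' := fun x y => Subtype.ext (map_mul α.1 x.1 y.1) }
  map_one' := by ext x; rfl
  map_mul' α β := by ext x; rfl

theorem coe_rest {A : Subgroup (MulAut K)} {H : Subgroup K} (h : Stab A H) (α : ↥A) (x : ↥H) :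
    ((rest h α x : ↥H) : K) = α.1 x.1 := rfl

/-- automorphisms as permutations -/
def toPerm (K : Type*) [Group K] : MulAut K →* Equiv.Perm K where
  toFun α := α.toEquiv
  map_one' := rfl
  map_mul' _ _ := rfl

/-- An invariant coset contains a fixed point. -/
theorem exists_fixed_coset [Finite K] {A : Subgroup (MulAut K)} {H : Subgroup K} (hH : Stab A H)
    (hcop : (Nat.card A).Coprime (Nat.card H)) (hs : Group.IsSolvable A ∨ Group.IsSolvable H) {g : K}
    (hg : ∀ α ∈ A, g⁻¹ * α g ∈ H) : ∃ h ∈ H, g * h ∈ Fx A := by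
  have hfin : Finite (MulAut K) := inferInstance
  obtain ⟨⟨x, hx, hf⟩, -⟩ := glaub hcop hs (rest hH) ((toPerm K).comp A.subtype)
    ({ toFun := fun h => Equiv.mulRight (h⁻¹ : ↥H).1
       map_one' := by ext x; simp
       map_mul' := fun a b => by ext x; simp [mul_assoc] } : ↥H →* Equiv.Perm K)
    (fun a h y => by
      show a.1 (y * (h⁻¹ : ↥H).1) = a.1 y * ((rest hH a h)⁻¹ : ↥H).1
      rw [map_mul, ← map_inv, coe_rest])
    {y | g⁻¹ * y ∈ H} ⟨g, by show g⁻¹ * g ∈ H; rw [inv_mul_cancel]; exact one_mem _⟩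
    (fun a y hy => by
      show g⁻¹ * a.1 y ∈ H
      have h1 : g⁻¹ * a.1 y = (g⁻¹ * a.1 g) * a.1 (g⁻¹ * y) := by
        rw [map_mul, map_inv]; group
      rw [h1]
      exact mul_mem (hg a.1 a.2) (hH a.1 a.2 _ hy))
    (fun h y hy => by
      show g⁻¹ * (y * (h⁻¹ : ↥H).1) ∈ H
      rw [← mul_assoc]
      exact mul_mem hy (h⁻¹).2)
    (fun x hx y hy => by
      refine ⟨⟨y⁻¹ * x, ?_⟩, ?_⟩
      · have : y⁻¹ * x = (g⁻¹ * y)⁻¹ * (g⁻¹ * x) := by group
        rw [this]
        exact mul_mem (inv_mem hy) hx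
      · show x * (y⁻¹ * x)⁻¹ = y
        group)
  refine ⟨g⁻¹ * x, hx, ?_⟩
  rw [mul_inv_cancel_left]
  exact fun α hα => hf ⟨α, hα⟩

/-- The orbit version. -/
theorem exists_fixed_orbit [Finite K] {A : Subgroup (MulAut K)} {B V : Subgroup K} (hB : Stab A B) (hV : Stab A V)
    (hcop : (Nat.card A).Coprime (Nat.card B)) (hs : Group.IsSolvable A ∨ Group.IsSolvable B)
    (hBV : ∀ b ∈ B, ∀ v ∈ V, b * v * b⁻¹ ∈ V) {u : K}
    (hu : ∀ α ∈ A, ∃ b ∈ B, (b * u * b⁻¹)⁻¹ * α u ∈ V) :
    ∃ b ∈ B, ∀ α ∈ A, (b * u * b⁻¹)⁻¹ * α (b * u * b⁻¹) ∈ V := by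
  classical
  have hfin : Finite (MulAut K) := inferInstance
  -- cosets
  let cs : K → Set K := fun w => {x | w⁻¹ * x ∈ V}
  have hcs : ∀ w w' : K, w⁻¹ * w' ∈ V → cs w = cs w' := by
    intro w w' h
    ext x
    show w⁻¹ * x ∈ V ↔ w'⁻¹ * x ∈ V
    have h1 : w⁻¹ * x = (w⁻¹ * w') * (w'⁻¹ * x) := by group
    rw [h1, Subgroup.mul_mem_cancel_left _ h]
  have hcs' : ∀ w w' : K, cs w = cs w' → w⁻¹ * w' ∈ V := by
    intro w w' h
    have h1 : w' ∈ cs w := by
      rw [h]
      show w'⁻¹ * w' ∈ V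
      rw [inv_mul_cancel]; exact one_mem _
    exact h1
  -- automorphisms on sets
  let T : MulAut K →* Equiv.Perm (Set K) :=
    { toFun := fun α => Equiv.Set.congr α.toEquiv
      map_one' := by ext s x; simp
      map_mul' := fun α β => by
        apply Equiv.ext
        intro s
        show (fun x => (α * β) x) '' s = (fun x => α x) '' ((fun x => β x) '' s)
        rw [Set.image_image]
        rfl }
  have hT : ∀ (α : MulAut K) (s : Set K), T α s = α '' s := fun _ _ => rfl
  have hTV : ∀ (α : MulAut K), (∀ v, α v ∈ V ↔ v ∈ V) → ∀ w, T α (cs w) = cs (α w) := by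
    intro α hα w
    rw [hT]
    ext x
    constructor
    · rintro ⟨y, hy, rfl⟩
      show (α w)⁻¹ * α y ∈ V
      rw [← map_inv, ← map_mul, hα]
      exact hy
    · intro hx
      refine ⟨α⁻¹ x, ?_, MulAut.apply_inv_self _ _ _⟩
      show w⁻¹ * α⁻¹ x ∈ V
      rw [← hα, map_mul, map_inv, MulAut.apply_inv_self]
      exact hx
  have hTA : ∀ α ∈ A, ∀ w, T α (cs w) = cs (α w) := fun α hα => hTV α fun v => hV.mem_iff hα
  have hTB : ∀ b ∈ B, ∀ w, T (MulAut.conj b) (cs w) = cs (b * w * b⁻¹) := fun b hb => hTV _ fun v => by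
    rw [MulAut.conj_apply]
    refine ⟨fun h => ?_, hBV b hb v⟩
    have := hBV b⁻¹ (inv_mem hb) _ h
    have e : b⁻¹ * (b * v * b⁻¹) * b⁻¹⁻¹ = v := by group
    rwa [e] at this
  obtain ⟨⟨x, ⟨b, hb, rfl⟩, hf⟩, -⟩ := glaub hcop hs (rest hB) (T.comp A.subtype)
    ((T.comp MulAut.conj).comp B.subtype)
    (fun a h y => by
      show T a.1 (T (MulAut.conj h.1) y) = T (MulAut.conj (a.1 h.1)) (T a.1 y)
      rw [← Equiv.Perm.mul_apply, ← Equiv.Perm.mul_apply, ← map_mul, ← map_mul]
      congr 2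
      ext z
      simp)
    {s | ∃ b ∈ B, s = cs (b * u * b⁻¹)} ⟨_, 1, one_mem _, rfl⟩
    (fun a y hy => by
      obtain ⟨b, hb, rfl⟩ := hy
      obtain ⟨c, hc, h1⟩ := hu a.1 a.2
      refine ⟨a.1 b * c, mul_mem (hB a.1 a.2 b hb) hc, ?_⟩
      show T a.1 _ = _
      rw [hTA a.1 a.2]
      apply (hcs _ _ _).symm
      have h2 := hBV (a.1 b) (hB a.1 a.2 b hb) _ h1
      have h3 : (a.1 b * c * u * (a.1 b * c)⁻¹)⁻¹ * a.1 (b * u * b⁻¹) =
          a.1 b * ((c * u * c⁻¹)⁻¹ * a.1 u) * (a.1 b)⁻¹ := by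
        rw [map_mul, map_mul, map_inv]; group
      rw [h3]
      exact h2)
    (fun h y hy => by
      obtain ⟨b, hb, rfl⟩ := hy
      refine ⟨h.1 * b, mul_mem h.2 hb, ?_⟩
      show T (MulAut.conj h.1) _ = _
      rw [hTB h.1 h.2]
      congr 1
      group)
    (fun x hx y hy => by
      obtain ⟨b, hb, rfl⟩ := hx
      obtain ⟨c, hc, rfl⟩ := hy
      refine ⟨⟨c * b⁻¹, mul_mem hc (inv_mem hb)⟩, ?_⟩
      show T (MulAut.conj (c * b⁻¹)) _ = _
      rw [hTB _ (mul_mem hc (inv_mem hb))]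
      congr 1
      group)
  refine ⟨b, hb, fun α hα => ?_⟩
  have h1 : T α (cs (b * u * b⁻¹)) = cs (b * u * b⁻¹) := hf ⟨α, hα⟩
  rw [hTA α hα] at h1
  exact hcs' _ _ h1.symm

end Cfsg.Agent.H566
end

-- part: H566/BNRich
section
prune_inst 0x30100500040010000000000020001c42a2000000000b00002040000004800c4020040620a02002000002045420340068135c00004010000000000800411c0180100000021000a000000000000800000000000000000000000000000000000000000000000
set_option linter.all false
open scoped Cfsg.Agent.FastGrp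

-- part: H566/BNCore
section
/-!
# Fixed points of coprime groups of automorphisms on groups with a (B, N)-pair (helper566)

* `Rich H` : `H` is not nilpotent and has even order;
* `rich_of_node` : `A` (coprime) leaves `U`, `B` and the minimal parabolic `P_s` invariant and fixes a nontrivial orbit
  of `B` on `U / V`: then `C_K(A)` is rich.
-/

set_option autoImplicit false
set_option linter.unusedSectionVars false

namespace Cfsg.Agent.H566

open Subgroup Cfsg.Agent.Schreier.Tools Cfsg.Agent.Schreier.BNSch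

theorem nilp_of_inj {H L : Type*} [Group H] [Group L] (hL : Group.IsNilpotent L) (f : H →* L)
    (hf : Function.Injective f) : Group.IsNilpotent H :=
  Group.nilpotent_of_mulEquiv (MonoidHom.ofInjective hf).symm

/-- Not nilpotent and of even order. -/
def Rich (H : Type*) [Group H] : Prop := ¬ Group.IsNilpotent H ∧ Even (Nat.card H)

theorem Rich.of_injective {H L : Type*} [Group H] [Group L] [Finite L] (h : Rich H) (f : H →* L)
    (hf : Function.Injective f) : Rich L := by
  refine ⟨fun hn => h.1 (nilp_of_inj hn f hf), ?_⟩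
  have h1 : Nat.card H ∣ Nat.card L := Subgroup.card_dvd_of_injective f hf
  exact h.2.trans_dvd h1

theorem Rich.congr {H L : Type*} [Group H] [Group L] [Finite L] (h : Rich H) (e : H ≃* L) : Rich L :=
  h.of_injective e.toMonoidHom e.injective

theorem stab_iff {K : Type*} [Group K] {A : Subgroup (MulAut K)} {H : Subgroup K} : Stab A H ↔ Inv A H := inv_iff.symm

variable {K : Type*} [Group K] [Finite K]

theorem rich_of_node (P : Cfsg.BNPair K) {U V : Subgroup K} {s : K} (hs : s ∈ P.S) (hN : Node P U s V)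
    (hUB : U ≤ P.B) (hUN : ∀ b ∈ P.B, ∃ u ∈ U, u⁻¹ * b ∈ P.N) {A : Subgroup (MulAut K)}
    (hcop : (Nat.card A).Coprime (Nat.card K)) (hsolv : Group.IsSolvable A) (hU : Stab A U) (hB : Stab A P.B)
    (hP : Stab A (P.parabolic {s})) (hBU : ∀ b ∈ P.B, ∀ u ∈ U, b * u * b⁻¹ ∈ U)
    (horb : ∃ u ∈ U, u ∉ V ∧ ∀ α ∈ A, ∃ b ∈ P.B, (b * u * b⁻¹)⁻¹ * α u ∈ V) : Rich (Fx A) := by
  classical
  have hcopH : ∀ H : Subgroup K, (Nat.card A).Coprime (Nat.card H) := fun H =>
    hcop.coprime_dvd_right (card_subgroup_dvd_card H)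
  have hV : Stab A V := stab_iff.2 (hN.inv hUB (stab_iff.1 hU) (stab_iff.1 hB) (stab_iff.1 hP))
  -- a fixed point in `U \ V`
  obtain ⟨u₁, hu₁U, hu₁V, hu₁F⟩ : ∃ u ∈ U, u ∉ V ∧ u ∈ Fx A := by
    obtain ⟨u, hu, huV, h⟩ := horb
    obtain ⟨b, hb, h1⟩ := exists_fixed_orbit hB hV (hcopH _) (Or.inl hsolv) hN.conj_B h
    obtain ⟨v, hv, h2⟩ := exists_fixed_coset hV (hcopH _) (Or.inl hsolv) h1
    refine ⟨_, mul_mem (hBU b hb u hu) (hN.le hv), fun h3 => huV ?_, h2⟩
    have h4 : b * u * b⁻¹ ∈ V := by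
      have := mul_mem h3 (inv_mem hv)
      rwa [mul_inv_cancel_right] at this
    have h5 := hN.conj_B b⁻¹ (inv_mem hb) _ h4
    have e : b⁻¹ * (b * u * b⁻¹) * b⁻¹⁻¹ = u := by group
    rwa [e] at h5
  have hsP : s ∈ P.parabolic {s} := mem_parabolic_self P s
  have hBP : P.B ≤ P.parabolic {s} := B_le_parabolic P _
  have hsB : s ∉ P.B := not_mem_B P hs
  -- fixed points outside `B`
  obtain ⟨⟨y, ⟨hyP, hyB⟩, hyF⟩, htr⟩ := glaub (A := ↥A) (H := ↥U × ↥P.B) (Y := K)
    (by
      rw [Nat.card_prod]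
      exact Nat.Coprime.mul_right (hcopH _) (hcopH _)) (Or.inl hsolv)
    { toFun := fun a => MulEquiv.prodCongr (rest hU a) (rest hB a)
      map_one' := by ext x <;> rfl
      map_mul' := fun a b => by ext x <;> rfl }
    ((toPerm K).comp A.subtype)
    { toFun := fun h => (Equiv.mulRight (h.2⁻¹ : ↥P.B).1).trans (Equiv.mulLeft h.1.1)
      map_one' := by ext x; simp
      map_mul' := fun a b => by ext x; simp [mul_assoc] }
    (fun a h y => by
      show a.1 (h.1.1 * (y * (h.2⁻¹ : ↥P.B).1)) = a.1 h.1.1 * (a.1 y * ((rest hB a h.2)⁻¹ : ↥P.B).1)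
      rw [map_mul, map_mul, ← map_inv, coe_rest])
    {y | y ∈ P.parabolic {s} ∧ y ∉ P.B} ⟨s, hsP, hsB⟩
    (fun a y hy => ⟨hP a.1 a.2 y hy.1, fun h => hy.2 ((hB.mem_iff a.2).1 h)⟩)
    (fun h y hy => by
      show h.1.1 * (y * (h.2⁻¹ : ↥P.B).1) ∈ P.parabolic {s} ∧ h.1.1 * (y * (h.2⁻¹ : ↥P.B).1) ∉ P.B
      have hu : h.1.1 ∈ P.B := hUB h.1.2
      have hb : (h.2⁻¹ : ↥P.B).1 ∈ P.B := (h.2⁻¹).2
      refine ⟨mul_mem (hBP hu) (mul_mem hy.1 (hBP hb)), fun h1 => hy.2 ?_⟩
      rwa [Subgroup.mul_mem_cancel_left _ hu, Subgroup.mul_mem_cancel_right _ hb] at h1)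
    (fun x hx y hy => by
      obtain ⟨u, hu, b, hb, rfl⟩ := exists_of_mem_parabolic P hUB hUN hs hx.1 hx.2
      obtain ⟨u', hu', b', hb', rfl⟩ := exists_of_mem_parabolic P hUB hUN hs hy.1 hy.2
      refine ⟨(⟨u' * u⁻¹, mul_mem hu' (inv_mem hu)⟩, ⟨b'⁻¹ * b, mul_mem (inv_mem hb') hb⟩), ?_⟩
      show u' * u⁻¹ * (u * s * b * (b'⁻¹ * b)⁻¹) = u' * s * b'
      group)
  have hyF' : y ∈ Fx A := fun α hα => hyF ⟨α, hα⟩
  have htr' : ∀ g ∈ P.parabolic {s}, g ∉ P.B → g ∈ Fx A → ∃ u ∈ U, u ∈ Fx A ∧ ∃ b ∈ P.B, b ∈ Fx A ∧ g = u * y * b := by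
    intro g hg hgB hgF
    obtain ⟨⟨u, b⟩, h1, h2⟩ := htr y ⟨hyP, hyB⟩ g ⟨hg, hgB⟩ hyF (fun a => hgF a.1 a.2)
    refine ⟨u.1, u.2, fun α hα => ?_, b.1⁻¹, inv_mem b.2, fun α hα => ?_, ?_⟩
    · have := congrArg (fun z : ↥U × ↥P.B => (z.1 : K)) (h1 ⟨α, hα⟩)
      exact this
    · have := congrArg (fun z : ↥U × ↥P.B => (z.2 : K)) (h1 ⟨α, hα⟩)
      have h3 : α b.1 = b.1 := this
      rw [map_inv, h3]
    · rw [← h2]
      show u.1 * (y * (b⁻¹ : ↥P.B).1) = u.1 * y * b.1⁻¹
      rw [mul_assoc]; rfl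
  constructor
  · intro hnil
    let C : Subgroup K := Fx A ⊓ P.parabolic {s}
    have hCn : Group.IsNilpotent ↥C :=
      nilp_of_inj hnil (Subgroup.inclusion (inf_le_left : C ≤ Fx A)) (Subgroup.inclusion_injective _)
    have hlt : P.B.subgroupOf C < ⊤ := by
      rw [lt_top_iff_ne_top]
      intro h
      rw [Subgroup.subgroupOf_eq_top] at h
      exact hyB (h ⟨hyF', hyP⟩)
    have h1 := (Group.normalizerCondition_of_isNilpotent (G := ↥C)) _ hlt
    obtain ⟨g, hg, hgB⟩ := SetLike.exists_of_lt h1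
    have hgB' : (g : K) ∉ P.B := hgB
    have hu₁C : u₁ ∈ C := ⟨hu₁F, hBP (hUB hu₁U)⟩
    have h2 := (Subgroup.mem_normalizer_iff.1 (inv_mem hg) ⟨u₁, hu₁C⟩).1 (show u₁ ∈ P.B from hUB hu₁U)
    have h3 : (g : K)⁻¹ * u₁ * g ∈ P.B := by
      have h4 : ((g⁻¹ * ⟨u₁, hu₁C⟩ * g⁻¹⁻¹ : ↥C) : K) ∈ P.B := h2
      simpa using h4
    obtain ⟨u, hu, b, hb, e⟩ := exists_of_mem_parabolic P hUB hUN hs g.2.2 hgB'
    have h4 : s⁻¹ * (u⁻¹ * u₁ * u) * s ∈ P.B := by
      have h5 : s⁻¹ * (u⁻¹ * u₁ * u) * s = b * ((g : K)⁻¹ * u₁ * g) * b⁻¹ := by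
        rw [e]; group
      rw [h5]
      exact mul_mem (mul_mem hb h3) (inv_mem hb)
    have h5 := hN.stab _ (mul_mem (mul_mem (inv_mem hu) hu₁U) hu) h4
    apply hu₁V
    have h6 := hN.conj_B u (hUB hu) _ h5
    have h7 : u * (u⁻¹ * u₁ * u) * u⁻¹ = u₁ := by group
    rwa [h7] at h6
  · obtain ⟨u, hu, huF, b, hb, hbF, e⟩ := htr' y⁻¹ (inv_mem hyP) (fun h => hyB (by simpa using inv_mem h)) (inv_mem hyF')
    -- `z = y u`, `z * z ∈ B`
    have hzF : y * u ∈ Fx A := mul_mem hyF' huF
    have hzB : y * u ∉ P.B := fun h => hyB (by rwa [Subgroup.mul_mem_cancel_right _ (hUB hu)] at h)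
    have hzz : (y * u) * (y * u) ∈ P.B := by
      have h1 : (y * u) * (y * u) = y * (u * y * b) * b⁻¹ * u := by group
      rw [h1, ← e, mul_inv_cancel, one_mul]
      exact mul_mem (inv_mem hb) (hUB hu)
    by_contra hodd
    rw [Nat.not_even_iff_odd] at hodd
    have h1 : (⟨y * u, hzF⟩ : ↥(Fx A)) ^ Nat.card (Fx A) = 1 := pow_card_eq_one'
    have h2 : (y * u) ^ Nat.card (Fx A) = 1 := congrArg Subtype.val h1
    obtain ⟨k, hk⟩ := hodd
    rw [hk, pow_succ, pow_mul, pow_two] at h2
    apply hzB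
    have h3 : y * u = (((y * u) * (y * u)) ^ k)⁻¹ := eq_inv_of_mul_eq_one_right h2
    rw [h3]
    exact inv_mem (pow_mem hzz k)

end Cfsg.Agent.H566
end

-- part: H566/BNRich
section
/-!
# Coprime groups of automorphisms of groups with a (B, N)-pair have rich fixed points (helper566)

* `CopRich K` : the fixed points of every solvable group of automorphisms of coprime order are rich;
* `copRich_of_sylow` : it is enough to consider groups leaving a given Sylow subgroup invariant;
* `orb_of_two`, `two_of_field` : invariant orbits of `B` on `U / V`;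
* `copRich_of_bn` : the theorem for groups with a (B, N)-pair.
-/

set_option autoImplicit false
set_option linter.unusedSectionVars false

namespace Cfsg.Agent.H566

open Subgroup Cfsg.Agent.Schreier.Tools Cfsg.Agent.Schreier.BNSch
open scoped Pointwise

/-- The fixed points of every solvable group of automorphisms of coprime order are rich. -/
def CopRich (K : Type*) [Group K] : Prop :=
  ∀ A : Subgroup (MulAut K), (Nat.card A).Coprime (Nat.card K) → Group.IsSolvable A → Rich (Fx A)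

/-- Transport of groups of automorphisms. -/
theorem fx_map {K L : Type*} [Group K] [Group L] (e : K ≃* L) (A : Subgroup (MulAut K)) :
    Fx (A.map (MulAut.congr e).toMonoidHom) = (Fx A).map e.toMonoidHom := by
  ext y
  constructor
  · intro h
    refine ⟨e.symm y, fun α hα => ?_, e.apply_symm_apply y⟩
    have h1 := h (MulAut.congr e α) ⟨α, hα, rfl⟩
    have h2 : e (α (e.symm y)) = y := h1
    apply e.injective
    rw [h2, e.apply_symm_apply]
  · rintro ⟨x, hx, rfl⟩ _ ⟨α, hα, rfl⟩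
    show e (α (e.symm (e x))) = e x
    rw [e.symm_apply_apply, hx α hα]

theorem card_map_congr {K L : Type*} [Group K] [Group L] (e : K ≃* L) (A : Subgroup (MulAut K)) :
    Nat.card (A.map (MulAut.congr e).toMonoidHom) = Nat.card A :=
  (Nat.card_congr (A.equivMapOfInjective _ (MulAut.congr e).injective).toEquiv).symm

theorem solv_map_congr {K L : Type*} [Group K] [Group L] (e : K ≃* L) {A : Subgroup (MulAut K)}
    (h : Group.IsSolvable A) : Group.IsSolvable (A.map (MulAut.congr e).toMonoidHom) :=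
  Group.isSolvable_of_surjective (f := (MulAut.congr e).toMonoidHom.subgroupMap A)
    ((MulAut.congr e).toMonoidHom.subgroupMap_surjective A)

theorem CopRich.of_equiv {K L : Type*} [Group K] [Group L] [Finite K] [Finite L] (e : K ≃* L) (h : CopRich K) :
    CopRich L := by
  intro A hA hs
  have h1 := h (A.map (MulAut.congr e.symm).toMonoidHom)
    (by rwa [card_map_congr, Nat.card_congr e.toEquiv]) (solv_map_congr e.symm hs)
  rw [fx_map] at h1
  exact h1.congr ((Fx A).equivMapOfInjective e.symm.toMonoidHom e.symm.injective).symm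

variable {K : Type*} [Group K] [Finite K]

/-- Conjugate groups of automorphisms. -/
theorem rich_conj {A : Subgroup (MulAut K)} (γ : MulAut K) (h : Rich (Fx (A.map (MulAut.conj γ).toMonoidHom))) :
    Rich (Fx A) := by
  have h1 : A.map (MulAut.conj γ).toMonoidHom = A.map (MulAut.congr γ).toMonoidHom := by
    congr 1
  rw [h1, fx_map] at h
  exact h.congr ((Fx A).equivMapOfInjective γ.toMonoidHom γ.injective).symm

/-- An invariant Sylow subgroup. -/
theorem exists_sylow_stab {A : Subgroup (MulAut K)} (hcop : (Nat.card A).Coprime (Nat.card K))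
    (hs : Group.IsSolvable A) (p : ℕ) [Fact p.Prime] : ∃ S : Sylow p K, Stab A (S : Subgroup K) := by
  obtain ⟨⟨S, -, hS⟩, -⟩ := glaub hcop (Or.inl hs) A.subtype
    ((MulAction.toPermHom (MulAut K) (Sylow p K)).comp A.subtype) (MulAction.toPermHom K (Sylow p K))
    (fun a k P => by
      show a.1 • (k • P) = (a.1 k) • (a.1 • P)
      apply Sylow.ext
      rw [Sylow.smul_def, Sylow.smul_def, Sylow.pointwise_smul_def, Sylow.pointwise_smul_def,
        Sylow.pointwise_smul_def, Sylow.pointwise_smul_def, ← mul_smul, ← mul_smul]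
      congr 1
      ext z
      simp)
    Set.univ ⟨default, trivial⟩ (fun _ _ _ => trivial) (fun _ _ _ => trivial)
    (fun P _ Q _ => by
      obtain ⟨k, hk⟩ := MulAction.exists_smul_eq K P Q
      exact ⟨k, hk⟩)
  refine ⟨S, fun α hα h hh => ?_⟩
  have h1 : α • S = S := hS ⟨α, hα⟩
  have h2 : α h ∈ ((α • S : Sylow p K) : Subgroup K) := by
    rw [Sylow.pointwise_smul_def]
    exact Subgroup.smul_mem_pointwise_smul h α _ hh
  rwa [h1] at h2

/-- It is enough to consider groups leaving a given Sylow subgroup invariant. -/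
theorem copRich_of_sylow {p : ℕ} [Fact p.Prime] (U : Sylow p K)
    (h : ∀ A : Subgroup (MulAut K), (Nat.card A).Coprime (Nat.card K) → Group.IsSolvable A →
      Stab A (U : Subgroup K) → Rich (Fx A)) : CopRich K := by
  intro A hA hs
  obtain ⟨S, hS⟩ := exists_sylow_stab hA hs p
  obtain ⟨k, hk⟩ := MulAction.exists_smul_eq K S U
  apply rich_conj (MulAut.conj k)
  apply h
  · rwa [Nat.card_congr (A.equivMapOfInjective _ (MulAut.conj (MulAut.conj k)).injective).symm.toEquiv]
  · exact Group.isSolvable_of_surjective (f := (MulAut.conj (MulAut.conj k)).toMonoidHom.subgroupMap A)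
      ((MulAut.conj (MulAut.conj k)).toMonoidHom.subgroupMap_surjective A)
  · rintro _ ⟨α, hα, rfl⟩ u hu
    rw [← hk, Sylow.smul_def, Sylow.pointwise_smul_def, Subgroup.mem_pointwise_smul_iff_inv_smul_mem] at hu ⊢
    have h1 := hS α hα _ hu
    have h2 : (MulAut.conj k)⁻¹ • ((MulAut.conj (MulAut.conj k)).toMonoidHom α) u = α ((MulAut.conj k)⁻¹ • u) := by
      show (MulAut.conj k)⁻¹ (MulAut.conj k (α ((MulAut.conj k)⁻¹ u))) = α ((MulAut.conj k)⁻¹ u)
      rw [MulAut.inv_apply_self]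
    rw [h2]
    exact h1

/-! ### Invariant orbits -/

/-- `u` and `u'` are in the same orbit of `B` modulo `V`. -/
def Orb (B V : Subgroup K) (u u' : K) : Prop := ∃ b ∈ B, (b * u * b⁻¹)⁻¹ * u' ∈ V

theorem Orb.symm {B V : Subgroup K} (hBV : ∀ b ∈ B, ∀ v ∈ V, b * v * b⁻¹ ∈ V) {u u' : K} (h : Orb B V u u') :
    Orb B V u' u := by
  obtain ⟨b, hb, h1⟩ := h
  refine ⟨b⁻¹, inv_mem hb, ?_⟩
  have h2 := hBV b⁻¹ (inv_mem hb) _ (inv_mem h1)
  have h3 : (b⁻¹ * u' * b⁻¹⁻¹)⁻¹ * u = b⁻¹ * ((b * u * b⁻¹)⁻¹ * u')⁻¹ * b⁻¹⁻¹ := by group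
  rw [h3]
  exact h2

theorem Orb.trans {B V : Subgroup K} (hBV : ∀ b ∈ B, ∀ v ∈ V, b * v * b⁻¹ ∈ V) {u u' u'' : K} (h : Orb B V u u')
    (h' : Orb B V u' u'') : Orb B V u u'' := by
  obtain ⟨b, hb, h1⟩ := h
  obtain ⟨c, hc, h2⟩ := h'
  refine ⟨c * b, mul_mem hc hb, ?_⟩
  have h3 := hBV c hc _ h1
  have h4 : (c * b * u * (c * b)⁻¹)⁻¹ * u'' = (c * ((b * u * b⁻¹)⁻¹ * u') * c⁻¹) * ((c * u' * c⁻¹)⁻¹ * u'') := by group
  rw [h4]
  exact mul_mem h3 h2

theorem Orb.map {A : Subgroup (MulAut K)} {B V : Subgroup K} (hB : Stab A B) (hV : Stab A V) {u u' : K}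
    (h : Orb B V u u') {α : MulAut K} (hα : α ∈ A) : Orb B V (α u) (α u') := by
  obtain ⟨b, hb, h1⟩ := h
  refine ⟨α b, hB α hα b hb, ?_⟩
  have := hV α hα _ h1
  rwa [map_mul, map_inv, map_mul, map_mul, map_inv] at this

/-- Two orbits are invariant under a group of odd order. -/
theorem orb_of_two {A : Subgroup (MulAut K)} (hodd : Odd (Nat.card A)) {B U V : Subgroup K} (hB : Stab A B)
    (hU : Stab A U) (hV : Stab A V) (hBV : ∀ b ∈ B, ∀ v ∈ V, b * v * b⁻¹ ∈ V) {u₀ u₁ : K} (h0 : u₀ ∈ U) (h0V : u₀ ∉ V)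
    (h1 : u₁ ∈ U) (h1V : u₁ ∉ V) (h : ∀ u ∈ U, u ∉ V → Orb B V u₀ u ∨ Orb B V u₁ u) :
    ∃ u ∈ U, u ∉ V ∧ ∀ α ∈ A, ∃ b ∈ B, (b * u * b⁻¹)⁻¹ * α u ∈ V := by
  refine ⟨u₀, h0, h0V, ?_⟩
  have hV' : ∀ α ∈ A, ∀ u, α u ∈ V ↔ u ∈ V := fun α hα u => hV.mem_iff hα
  have key : ∀ γ ∈ A, Orb B V u₀ ((γ * γ) u₀) := by
    intro γ hγ
    rw [MulAut.mul_apply]
    by_cases h2 : Orb B V u₀ (γ u₀)
    · exact h2.trans hBV (h2.map hB hV hγ)
    · have h3 := (h _ (hU γ hγ _ h0) (fun h => h0V ((hV' γ hγ _).1 h))).resolve_left h2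
      -- `γ u₀ ~ u₁`
      have h4 := h3.map hB hV hγ
      rcases h _ (hU γ hγ _ h1) (fun h => h1V ((hV' γ hγ _).1 h)) with h5 | h5
      · exact h5.trans hBV h4
      · exfalso
        apply h2
        -- `u₁ ~ γ u₁`, `u₁ ~ γ u₀`, so `γ u₁ ~ γ u₀`, `u₁ ~ u₀`
        have h6 : Orb B V (γ u₁) (γ u₀) := (h5.symm hBV).trans hBV h3
        have h7 : Orb B V u₁ u₀ := by
          have := h6.map hB hV (inv_mem hγ)
          rwa [MulAut.inv_apply_self, MulAut.inv_apply_self] at this
        exact (h7.symm hBV).trans hBV h3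
  intro α hα
  obtain ⟨k, hk⟩ := hodd
  have h2 : (⟨α, hα⟩ : A) ^ Nat.card A = 1 := pow_card_eq_one'
  have h3 : α ^ (2 * k + 1) = 1 := by
    rw [← hk]
    exact congrArg Subtype.val h2
  have h4 : α = α ^ (k + 1) * α ^ (k + 1) := by
    rw [← pow_add, show k + 1 + (k + 1) = (2 * k + 1) + 1 by ring, pow_succ, h3, one_mul]
  have h5 := key (α ^ (k + 1)) (pow_mem hα _)
  rwa [← h4] at h5

/-- Squares modulo nonsquares. -/
theorem exists_two_classes (F : Type*) [Field F] [Finite F] :
    ∃ ν : F, ν ≠ 0 ∧ ∀ t : F, t ≠ 0 → (∃ c : F, c ≠ 0 ∧ t = c ^ 2 * 1) ∨ ∃ c : F, c ≠ 0 ∧ t = c ^ 2 * ν := by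
  classical
  have := Fintype.ofFinite F
  by_cases h : ∀ a : F, IsSquare a
  · refine ⟨1, one_ne_zero, fun t ht => Or.inl ?_⟩
    obtain ⟨c, hc⟩ := h t
    refine ⟨c, ?_, ?_⟩
    · rintro rfl
      exact ht (by rw [hc, mul_zero])
    · rw [hc, mul_one, pow_two]
  · push Not at h
    obtain ⟨ν, hν⟩ := h
    have hν0 : ν ≠ 0 := by
      rintro rfl
      exact hν (IsSquare.zero)
    have h2 : ringChar F ≠ 2 := fun h2 => hν (FiniteField.isSquare_of_char_two h2 ν)
    refine ⟨ν, hν0, fun t ht => ?_⟩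
    by_cases hsq : IsSquare t
    · left
      obtain ⟨c, hc⟩ := hsq
      refine ⟨c, ?_, ?_⟩
      · rintro rfl
        exact ht (by rw [hc, mul_zero])
      · rw [hc, mul_one, pow_two]
    · right
      have h3 : IsSquare (t * ν) := by
        have h4 : quadraticChar F t = -1 := quadraticChar_neg_one_iff_not_isSquare.2 hsq
        have h5 : quadraticChar F ν = -1 := quadraticChar_neg_one_iff_not_isSquare.2 hν
        rw [← quadraticChar_one_iff_isSquare (mul_ne_zero ht hν0), map_mul, h4, h5]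
        norm_num
      obtain ⟨c, hc⟩ := h3
      refine ⟨c / ν, div_ne_zero ?_ hν0, ?_⟩
      · rintro rfl
        rw [mul_zero] at hc
        exact mul_ne_zero ht hν0 hc
      · have h6 : c ^ 2 = t * ν := by rw [hc, pow_two]
        rw [div_pow, h6]
        field_simp

/-- **The theorem for groups with a (B, N)-pair.** -/
theorem copRich_of_bn (P : Cfsg.BNPair K) {p : ℕ} [Fact p.Prime] (U : Sylow p K) (h2 : 2 ∣ Nat.card K)
    (hnorm : Subgroup.normalizer ((U : Subgroup K) : Set K) = P.B)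
    (hUN : ∀ b ∈ P.B, ∃ u ∈ (U : Subgroup K), u⁻¹ * b ∈ P.N) {s : K} (hs : s ∈ P.S) {V : Subgroup K}
    (hN : Node P (U : Subgroup K) s V)
    (hperm : ∀ A : Subgroup (MulAut K), (Nat.card A).Coprime (Nat.card K) → Stab A P.B → Stab A (P.parabolic {s}))
    {Z : Subgroup K} (hZU : Z ≤ (U : Subgroup K))
    (hZ : ∀ A : Subgroup (MulAut K), Stab A (U : Subgroup K) → Stab A Z)
    (htwo : ∃ u₀ ∈ Z, u₀ ∉ V ∧ ∃ u₁ ∈ Z, u₁ ∉ V ∧
      ∀ u ∈ Z, u ∉ V → Orb P.B V u₀ u ∨ Orb P.B V u₁ u) : CopRich K := by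
  apply copRich_of_sylow U
  intro A hA hsol hU
  have hodd : Odd (Nat.card A) := by
    rw [← Nat.not_even_iff_odd, even_iff_two_dvd]
    intro h
    have := Nat.dvd_gcd h h2
    rw [hA] at this
    omega
  have hB : Stab A P.B := by
    rw [stab_iff] at hU ⊢
    have := hU.normalizer
    rwa [hnorm] at this
  have hUB : (U : Subgroup K) ≤ P.B := by
    rw [← hnorm]
    exact Subgroup.le_normalizer
  have hBU : ∀ b ∈ P.B, ∀ u ∈ (U : Subgroup K), b * u * b⁻¹ ∈ (U : Subgroup K) := by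
    intro b hb u hu
    rw [← hnorm] at hb
    exact (Subgroup.mem_normalizer_iff.1 hb u).1 hu
  have hP := hperm A hA hB
  have hV : Stab A V := stab_iff.2 (hN.inv hUB (stab_iff.1 hU) (stab_iff.1 hB) (stab_iff.1 hP))
  obtain ⟨u₀, h0, h0V, u₁, h1, h1V, h⟩ := htwo
  obtain ⟨u, hu, huV, horb⟩ := orb_of_two hodd hB (hZ A hU) hV hN.conj_B h0 h0V h1 h1V h
  exact rich_of_node P hs hN hUB hUN hA hsol hU hB hP hBU ⟨u, hZU hu, huV, horb⟩

end Cfsg.Agent.H566
end
end

-- part: H566/Reduce
section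
set_option linter.all false
open scoped Cfsg.Agent.FastGrp

/-!
# Coprime automorphism groups: reduction to simple groups (helper566)

* `diagHom` : `T` a normal subgroup of `G` whose images under `A` generate their direct product, `B` the stabilizer of
  `T` in `A`: the fixed points of `B` in `T` embed in the fixed points of `A` in `G`;
* `copRich_of_simples` : if the non-abelian simple groups satisfy `CopRich`, so do all finite non-solvable groups.
-/

set_option autoImplicit false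
set_option linter.unusedSectionVars false

namespace Cfsg.Agent.H566

open Subgroup

universe u

section Simple

variable {G : Type u} [Group G]

/-- normal non-abelian simple subgroups -/
def NSim (G : Type u) [Group G] : Set (Subgroup G) :=
  {T | T.Normal ∧ IsSimpleGroup T ∧ ¬ ∀ a ∈ T, ∀ b ∈ T, a * b = b * a}

theorem NSim.eq_or {T : Subgroup G} (hT : T ∈ NSim G) {N : Subgroup G} (hN : N.Normal) (h : N ≤ T) : N = ⊥ ∨ N = T := by
  have hs := hT.2.1
  have h1 : (N.subgroupOf T).Normal := inferInstance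
  rcases h1.eq_bot_or_eq_top with h2 | h2
  · left
    rw [Subgroup.subgroupOf_eq_bot] at h2
    exact disjoint_self.1 (h2.mono_right h)
  · right
    exact le_antisymm h (Subgroup.subgroupOf_eq_top.1 h2)

theorem NSim.comm {S T : Subgroup G} (hS : S ∈ NSim G) (hT : T ∈ NSim G) (h : S ≠ T) {s t : G} (hs : s ∈ S)
    (ht : t ∈ T) : Commute s t := by
  have hSn := hS.1
  have hTn := hT.1
  have h1 : (S ⊓ T).Normal := inferInstance
  have h2 : S ⊓ T = ⊥ := by
    rcases NSim.eq_or hS h1 inf_le_left with h3 | h3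
    · exact h3
    · rcases NSim.eq_or hT hSn (inf_eq_left.1 h3) with h4 | h4
      · rw [h4, bot_inf_eq]
      · exact absurd h4 h
  exact Subgroup.commute_of_normal_of_disjoint S T hSn hTn (disjoint_iff.2 h2) s t hs ht

theorem NSim.indep (G : Type u) [Group G] : sSupIndep (NSim G) := by
  intro T hT
  have hTn := hT.1
  have h0 : ∀ S ∈ NSim G \ {T}, ∀ s ∈ S, ∀ t ∈ T, Commute s t := fun S hS s hs t ht =>
    NSim.comm hS.1 hT hS.2 hs ht
  have h1 : sSup (NSim G \ {T}) ≤ centralizer (T : Set G) :=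
    sSup_le fun S hS s hs => by
      rw [mem_centralizer_iff]
      intro t ht
      exact (h0 S hS s hs t ht).symm
  have h2 : (T ⊓ centralizer (T : Set G)).Normal := inferInstance
  rcases NSim.eq_or hT h2 inf_le_left with h3 | h3
  · exact (disjoint_iff.2 h3).mono_right h1
  · exfalso
    apply hT.2.2
    intro a ha b hb
    have := inf_eq_left.1 h3 hb
    exact (mem_centralizer_iff.1 this a ha)

theorem NSim.map {T : Subgroup G} (hT : T ∈ NSim G) (α : MulAut G) : T.map α.toMonoidHom ∈ NSim G := by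
  obtain ⟨h1, h2, h3⟩ := hT
  refine ⟨h1.map _ α.surjective, (α.subgroupMap T).symm.isSimpleGroup, ?_⟩
  intro h
  apply h3
  intro a ha b hb
  apply α.injective
  rw [map_mul, map_mul]
  exact h _ (Subgroup.mem_map_of_mem _ ha) _ (Subgroup.mem_map_of_mem _ hb)

end Simple

section Diag

variable {G : Type u} [Group G] {A : Subgroup (MulAut G)}

/-- the stabilizer of `T` in `A` -/
def stT (A : Subgroup (MulAut G)) (T : Subgroup G) : Subgroup ↥A where
  carrier := {a | T.map a.1.toMonoidHom = T}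
  one_mem' := by
    show T.map (MonoidHom.id G) = T
    exact Subgroup.map_id T
  mul_mem' := by
    intro a b ha hb
    have h1 : T.map (a * b).1.toMonoidHom = (T.map b.1.toMonoidHom).map a.1.toMonoidHom := by
      rw [Subgroup.map_map]; rfl
    show T.map (a * b).1.toMonoidHom = T
    rw [h1]
    rw [show T.map b.1.toMonoidHom = T from hb]
    exact ha
  inv_mem' := by
    intro a ha
    have h1 : (T.map a.1.toMonoidHom).map (a⁻¹).1.toMonoidHom = T := by
      rw [Subgroup.map_map]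
      have h2 : (a⁻¹).1.toMonoidHom.comp a.1.toMonoidHom = MonoidHom.id G := by
        ext x
        show (a.1)⁻¹ (a.1 x) = x
        exact MulAut.inv_apply_self G a.1 x
      rw [h2, Subgroup.map_id]
    show T.map (a⁻¹).1.toMonoidHom = T
    conv_lhs => rw [← show T.map a.1.toMonoidHom = T from ha]
    exact h1

theorem mem_stT {T : Subgroup G} {a : ↥A} : a ∈ stT A T ↔ T.map a.1.toMonoidHom = T := Iff.rfl

/-- the stabilizer, as a group of automorphisms of `G` -/
def stG (A : Subgroup (MulAut G)) (T : Subgroup G) : Subgroup (MulAut G) := (stT A T).map A.subtype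

theorem stab_stG (T : Subgroup G) : Stab (stG A T) T := by
  rintro _ ⟨a, ha, rfl⟩ t ht
  have h1 : T.map a.1.toMonoidHom = T := ha
  rw [← h1]
  exact Subgroup.mem_map_of_mem _ ht

/-- the group induced on `T` by its stabilizer -/
def indT (A : Subgroup (MulAut G)) (T : Subgroup G) : Subgroup (MulAut T) := (rest (stab_stG (A := A) T)).range

theorem mem_fx_indT {T : Subgroup G} {s : T} (hs : s ∈ Fx (indT A T)) {a : ↥A} (ha : a ∈ stT A T) :
    a.1 s.1 = s.1 := by
  have h1 : (rest (stab_stG (A := A) T) ⟨a.1, ⟨a, ha, rfl⟩⟩) s = s := hs _ ⟨_, rfl⟩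
  have h2 := congrArg Subtype.val h1
  rw [coe_rest] at h2
  exact h2

theorem card_indT [Finite G] (T : Subgroup G) : Nat.card (indT A T) ∣ Nat.card A := by
  have h1 : Nat.card (indT A T) ∣ Nat.card (stG A T) := Subgroup.card_range_dvd _
  refine h1.trans ?_
  have h2 : Nat.card (stG A T) ∣ Nat.card (stT A T) := Subgroup.card_map_dvd _ _
  exact h2.trans (Subgroup.card_subgroup_dvd_card _)

theorem solv_indT (hA : Group.IsSolvable A) (T : Subgroup G) : Group.IsSolvable (indT A T) := by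
  have h1 : Group.IsSolvable (stT A T) := inferInstance
  have h2 : Group.IsSolvable (stG A T) :=
    Group.isSolvable_of_surjective (f := A.subtype.subgroupMap (stT A T)) (A.subtype.subgroupMap_surjective _)
  exact Group.isSolvable_of_surjective (f := (rest (stab_stG (A := A) T)).rangeRestrict)
    (rest (stab_stG (A := A) T)).rangeRestrict_surjective

/-- the coset representatives as embeddings -/
noncomputable def ph (A : Subgroup (MulAut G)) (T : Subgroup G) (i : ↥A ⧸ stT A T) : Fx (indT A T) →* G :=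
  ((i.out : ↥A) : MulAut G).toMonoidHom.comp (T.subtype.comp (Fx (indT A T)).subtype)

theorem ph_mk {T : Subgroup G} (a : ↥A) (s : Fx (indT A T)) : ph A T (QuotientGroup.mk a) s = a.1 s.1.1 := by
  obtain ⟨b, hb⟩ := QuotientGroup.mk_out_eq_mul (stT A T) a
  show ((QuotientGroup.mk a : ↥A ⧸ stT A T).out : MulAut G) s.1.1 = a.1 s.1.1
  rw [hb]
  show a.1 (b.1.1 s.1.1) = a.1 s.1.1
  rw [mem_fx_indT s.2 b.2]

theorem ph_mem {T : Subgroup G} (i : ↥A ⧸ stT A T) (s : Fx (indT A T)) :
    ph A T i s ∈ T.map ((i.out : ↥A) : MulAut G).toMonoidHom := Subgroup.mem_map_of_mem _ s.1.2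

theorem map_out_injective (T : Subgroup G) :
    Function.Injective (fun i : ↥A ⧸ stT A T => T.map ((i.out : ↥A) : MulAut G).toMonoidHom) := by
  intro i j h
  rw [← QuotientGroup.out_eq' i, ← QuotientGroup.out_eq' j, QuotientGroup.eq]
  rw [mem_stT]
  have h1 : T.map ((i.out)⁻¹ * j.out).1.toMonoidHom =
      (T.map ((j.out : ↥A) : MulAut G).toMonoidHom).map (((i.out : ↥A) : MulAut G)⁻¹).toMonoidHom := by
    rw [Subgroup.map_map]; rfl
  rw [h1]
  have h2 : T.map ((i.out : ↥A) : MulAut G).toMonoidHom = T.map ((j.out : ↥A) : MulAut G).toMonoidHom := h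
  rw [← h2, Subgroup.map_map]
  have h3 : (((i.out : ↥A) : MulAut G)⁻¹).toMonoidHom.comp ((i.out : ↥A) : MulAut G).toMonoidHom =
      MonoidHom.id G := by
    ext x
    exact MulAut.inv_apply_self G _ x
  rw [h3, Subgroup.map_id]

theorem ph_comm {T : Subgroup G} (hT : T ∈ NSim G) :
    Pairwise fun i j => ∀ x y : Fx (indT A T), Commute (ph A T i x) (ph A T j y) := by
  intro i j hij x y
  exact NSim.comm (NSim.map hT _) (NSim.map hT _) (fun h => hij (map_out_injective T h)) (ph_mem i x) (ph_mem j y)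

theorem ph_smul {T : Subgroup G} (a : ↥A) (i : ↥A ⧸ stT A T) (s : Fx (indT A T)) :
    a.1 (ph A T i s) = ph A T (a • i) s := by
  induction i using QuotientGroup.induction_on with
  | H b =>
    rw [ph_mk, show a • (QuotientGroup.mk b : ↥A ⧸ stT A T) = QuotientGroup.mk (a * b) from rfl, ph_mk]
    rfl

theorem noncommProd_congr' {M : Type*} [Monoid M] {s t : Multiset M} (h : s = t) (hs : {x | x ∈ s}.Pairwise Commute)
    (ht : {x | x ∈ t}.Pairwise Commute) : s.noncommProd hs = t.noncommProd ht := by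
  subst h; rfl

/-- the diagonal embedding -/
noncomputable def dg {T : Subgroup G} [Fintype (↥A ⧸ stT A T)] (hT : T ∈ NSim G) : Fx (indT A T) →* G :=
  (MonoidHom.noncommPiCoprod (ph A T) (ph_comm hT)).comp (MonoidHom.pi fun _ => MonoidHom.id _)

theorem dg_apply {T : Subgroup G} [Fintype (↥A ⧸ stT A T)] (hT : T ∈ NSim G) (s : Fx (indT A T)) :
    dg hT s = Finset.noncommProd Finset.univ (fun i => ph A T i s)
      (fun _ _ _ _ hij => ph_comm hT hij s s) := MonoidHom.noncommPiCoprod_apply (hcomm := ph_comm hT) _ _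

theorem dg_mem {T : Subgroup G} [Fintype (↥A ⧸ stT A T)] (hT : T ∈ NSim G) (s : Fx (indT A T)) :
    dg hT s ∈ Fx A := by
  classical
  rw [mem_Fx]
  intro α hα
  rw [dg_apply]
  refine (Finset.map_noncommProd _ _ _ α).trans ?_
  refine noncommProd_congr' ?_ _ _
  have h1 : (fun i : ↥A ⧸ stT A T => α (ph A T i s)) =
      (fun j => ph A T j s) ∘ (MulAction.toPerm (⟨α, hα⟩ : ↥A) : Equiv.Perm (↥A ⧸ stT A T)) := by
    funext i
    exact ph_smul ⟨α, hα⟩ i s
  rw [h1, ← Multiset.map_map, Multiset.map_univ_val_equiv]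

theorem dg_injective {T : Subgroup G} [Fintype (↥A ⧸ stT A T)] (hT : T ∈ NSim G) :
    Function.Injective (dg (A := A) hT) := by
  have h1 : Function.Injective (MonoidHom.noncommPiCoprod (ph A T) (ph_comm hT)) := by
    refine MonoidHom.injective_noncommPiCoprod_of_iSupIndep _ ?_ ?_
    · have h2 := (sSupIndep_iff _).1 (NSim.indep G)
      have h3 : iSupIndep (fun i : ↥A ⧸ stT A T => T.map ((i.out : ↥A) : MulAut G).toMonoidHom) :=
        h2.comp (f := fun i : ↥A ⧸ stT A T =>
          (⟨T.map ((i.out : ↥A) : MulAut G).toMonoidHom, NSim.map hT _⟩ : NSim G))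
          (fun i j h => map_out_injective T (congrArg Subtype.val h))
      exact h3.mono fun i => by
        rintro _ ⟨x, rfl⟩
        exact ph_mem i x
    · intro i x y h
      exact Subtype.ext (Subtype.ext (((i.out : ↥A) : MulAut G).injective h))
  intro x y h
  have h2 := h1 h
  obtain ⟨i⟩ : Nonempty (↥A ⧸ stT A T) := inferInstance
  exact congrFun h2 i

/-- **The stabilizer of a normal simple subgroup.** -/
theorem rich_of_nsim [Finite G] {T : Subgroup G} (hT : T ∈ NSim G) (h : Rich (Fx (indT A T))) : Rich (Fx A) := by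
  let _ : Fintype (↥A ⧸ stT A T) := Fintype.ofFinite _
  refine h.of_injective ((dg (A := A) hT).codRestrict (Fx A) (dg_mem hT)) ?_
  intro x y h
  exact dg_injective hT (congrArg Subtype.val h)

end Diag

section Quot

variable {G : Type u} [Group G] {A : Subgroup (MulAut G)} {N : Subgroup G}

theorem Stab.map_eq (h : Stab A N) {α : MulAut G} (hα : α ∈ A) : N.map α.toMonoidHom = N :=
  stab_iff.1 h α hα

/-- the action on a quotient -/
def quo [N.Normal] (h : Stab A N) : ↥A →* MulAut (G ⧸ N) where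
  toFun a := QuotientGroup.congr N N a.1 (h.map_eq a.2)
  map_one' := by
    ext x
    induction x using QuotientGroup.induction_on
    rfl
  map_mul' a b := by
    ext x
    induction x using QuotientGroup.induction_on
    rfl

theorem quo_mk [N.Normal] (h : Stab A N) (a : ↥A) (x : G) : quo h a (QuotientGroup.mk x) = QuotientGroup.mk (a.1 x) :=
  rfl

/-- fixed points of the quotient lift -/
theorem exists_lift [Finite G] [N.Normal] (h : Stab A N) (hcop : (Nat.card A).Coprime (Nat.card N))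
    (hs : Group.IsSolvable A ∨ Group.IsSolvable N) (x : G ⧸ N) (hx : x ∈ Fx (quo h).range) :
    ∃ g : Fx A, QuotientGroup.mk g.1 = x := by
  induction x using QuotientGroup.induction_on with
  | H g =>
    obtain ⟨n, hn, hf⟩ := exists_fixed_coset h hcop hs (g := g) (by
      intro α hα
      have h1 := hx _ ⟨⟨α, hα⟩, rfl⟩
      rw [quo_mk, eq_comm, QuotientGroup.eq] at h1
      exact h1)
    refine ⟨⟨g * n, hf⟩, ?_⟩
    rw [eq_comm, QuotientGroup.eq, inv_mul_cancel_left]
    exact hn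

theorem rich_of_quo [Finite G] [N.Normal] (h : Stab A N) (hcop : (Nat.card A).Coprime (Nat.card N))
    (hs : Group.IsSolvable A ∨ Group.IsSolvable N) (hr : Rich (Fx (quo h).range)) : Rich (Fx A) := by
  let f : Fx A →* Fx (quo h).range :=
    ((QuotientGroup.mk' N).comp (Fx A).subtype).codRestrict (Fx (quo h).range) (by
      rintro ⟨g, hg⟩ _ ⟨a, rfl⟩
      show quo h a (QuotientGroup.mk g) = QuotientGroup.mk g
      rw [quo_mk, hg a.1 a.2])
  have hf : Function.Surjective f := by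
    rintro ⟨x, hx⟩
    obtain ⟨g, hg⟩ := exists_lift h hcop hs x hx
    exact ⟨g, Subtype.ext hg⟩
  refine ⟨fun hn => hr.1 (Group.nilpotent_of_surjective f hf), ?_⟩
  exact even_iff_two_dvd.2 ((even_iff_two_dvd.1 hr.2).trans (Subgroup.card_dvd_of_surjective f hf))

theorem rich_of_rest [Finite G] (h : Stab A N) (hr : Rich (Fx (rest h).range)) : Rich (Fx A) := by
  refine hr.of_injective ((N.subtype.comp (Fx (rest h).range).subtype).codRestrict (Fx A) ?_) ?_
  · rintro ⟨x, hx⟩ α hα
    have h1 := hx _ ⟨⟨α, hα⟩, rfl⟩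
    exact congrArg Subtype.val h1
  · intro x y hxy
    exact Subtype.ext (Subtype.ext (show (x.1 : G) = y.1 from congrArg (fun z : Fx A => (z : G)) hxy))

end Quot

section Main

variable {G : Type u} [Group G]

/-- The semidirect product with a group of automorphisms. -/
abbrev SD (A : Subgroup (MulAut G)) : Type u := G ⋊[A.subtype] ↥A

/-- **A group without proper invariant normal subgroups.** -/
theorem exists_nsim [Finite G] {A : Subgroup (MulAut G)} (hna : ¬ ∀ a b : G, a * b = b * a)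
    (hmin : ∀ N : Subgroup G, N.Normal → Stab A N → N = ⊥ ∨ N = ⊤) : ∃ T, T ∈ NSim G := by
  have hfA : Finite (MulAut G) := inferInstance
  have hfin : Finite (SD A) := Finite.of_equiv _ SemidirectProduct.equivProd.symm
  let ι : G →* SD A := SemidirectProduct.inl
  have hι : Function.Injective ι := SemidirectProduct.inl_injective
  have hn : ι.range.Normal := by
    rw [show ι.range = (SemidirectProduct.rightHom : SD A →* ↥A).ker from SemidirectProduct.range_inl_eq_ker_rightHom]
    infer_instance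
  obtain ⟨⟨T, hT⟩, -, -, h3, h4, -⟩ := Cfsg.Agent.Lib.MinNormalNonabelian.nonabelian_structure ι.range (by
    intro M hM hMN
    have h1 := hmin (M.comap ι) inferInstance (by
      intro α hα g hg
      show ι (α g) ∈ M
      have h2 : ι (α g) = SemidirectProduct.inr ⟨α, hα⟩ * ι g * (SemidirectProduct.inr ⟨α, hα⟩)⁻¹ := by
        rw [← map_inv]
        exact SemidirectProduct.inl_aut (φ := A.subtype) ⟨α, hα⟩ g
      rw [h2]
      exact hM.conj_mem _ hg _)
    rcases h1 with h1 | h1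
    · left
      rw [eq_bot_iff]
      intro x hx
      obtain ⟨g, rfl⟩ := hMN hx
      have h2 : g ∈ M.comap ι := hx
      rw [h1, Subgroup.mem_bot] at h2
      rw [h2, map_one]
      exact one_mem _
    · right
      refine le_antisymm hMN ?_
      rintro _ ⟨g, rfl⟩
      have h2 : g ∈ M.comap ι := by rw [h1]; exact Subgroup.mem_top g
      exact h2) (by
    intro h
    apply hna
    intro a b
    apply hι
    rw [map_mul, map_mul]
    exact h _ ⟨a, rfl⟩ _ ⟨b, rfl⟩)
  have hs := h3 T hT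
  have hc := h4 T hT
  obtain ⟨h5, h6, h7, -⟩ := hT
  have hmap : (T.comap ι).map ι = T := Subgroup.map_comap_eq_self h5
  have e : ↥(T.comap ι) ≃* ↥T := ((T.comap ι).equivMapOfInjective ι hι).trans (MulEquiv.subgroupCongr hmap)
  refine ⟨T.comap ι, ?_, e.isSimpleGroup, ?_⟩
  · constructor
    intro n hn g
    show ι (g * n * g⁻¹) ∈ T
    rw [map_mul, map_mul, map_inv]
    exact (Subgroup.mem_normalizer_iff.1 (h7 ⟨g, rfl⟩) (ι n)).1 hn
  · intro hcomm
    apply h6
    rw [eq_bot_iff]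
    intro z hz
    rw [Subgroup.mem_bot]
    apply hc z hz
    intro t ht
    obtain ⟨a, rfl⟩ := h5 hz
    obtain ⟨b, rfl⟩ := h5 ht
    show ι a * ι b = ι b * ι a
    rw [← map_mul, ← map_mul, hcomm a hz b ht]

/-- **Reduction to simple groups.** -/
theorem copRich_of_simples (hS : ∀ (S : Type u) [Group S] [Finite S] [IsSimpleGroup S],
    (¬ ∀ a b : S, a * b = b * a) → CopRich S) :
    ∀ (G : Type u) [Group G] [Finite G], ¬ Group.IsSolvable G → CopRich G := by
  intro G _ _ hns
  induction hn : Nat.card G using Nat.strong_induction_on generalizing G with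
  | _ n ih =>
    subst hn
    intro A hcop hA
    by_cases hmin : ∀ N : Subgroup G, N.Normal → Stab A N → N = ⊥ ∨ N = ⊤
    · obtain ⟨T, hT⟩ := exists_nsim (fun h => hns (Group.isSolvable_of_comm h)) hmin
      have hTs := hT.2.1
      refine rich_of_nsim hT (hS ↥T (fun h => hT.2.2 fun a ha b hb => ?_) _ ?_ (solv_indT hA T))
      · exact congrArg Subtype.val (h ⟨a, ha⟩ ⟨b, hb⟩)
      · exact (hcop.coprime_dvd_left (card_indT T)).coprime_dvd_right (Subgroup.card_subgroup_dvd_card T)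
    · push Not at hmin
      obtain ⟨N, hN, hst, hb, ht⟩ := hmin
      have hcN : (Nat.card A).Coprime (Nat.card N) := hcop.coprime_dvd_right (Subgroup.card_subgroup_dvd_card N)
      by_cases hNs : Group.IsSolvable N
      · have hq : ¬ Group.IsSolvable (G ⧸ N) := fun h => hns ((Group.isSolvable_iff_subgroup_quotient N).2 ⟨hNs, h⟩)
        have h1 : Nat.card (G ⧸ N) < Nat.card G := by
          have h2 : 1 < Nat.card N := by
            rw [Subgroup.one_lt_card_iff_ne_bot]; exact hb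
          have h3 := Subgroup.card_eq_card_quotient_mul_card_subgroup N
          have h4 : 0 < Nat.card (G ⧸ N) := Nat.card_pos
          nlinarith
        refine rich_of_quo hst hcN (Or.inl hA) (ih _ h1 (G ⧸ N) hq rfl _ ?_ ?_)
        · exact (hcop.coprime_dvd_left (Subgroup.card_range_dvd _)).coprime_dvd_right
            (Subgroup.card_quotient_dvd_card N)
        · exact Group.isSolvable_of_surjective (f := (quo hst).rangeRestrict) (quo hst).rangeRestrict_surjective
      · have h1 : Nat.card N < Nat.card G := 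
          lt_of_le_of_ne N.card_le_card_group fun h => ht (Subgroup.eq_top_of_card_eq N h)
        refine rich_of_rest hst (ih _ h1 N hNs rfl _ ?_ ?_)
        · exact hcN.coprime_dvd_left (Subgroup.card_range_dvd _)
        · exact Group.isSolvable_of_surjective (f := (rest hst).rangeRestrict) (rest hst).rangeRestrict_surjective

end Main

end Cfsg.Agent.H566
end

-- part: H566/BNPerm
section
set_option linter.all false
open scoped Cfsg.Agent.FastGrp

/-!
# Groups of automorphisms of odd order fix nodes of the diagram (helper566)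

* `stab_of_family` : a group of odd order fixes the members of an invariant set of at most two subgroups;
* `stab_of_valency` : nodes whose valency occurs at most twice;
* `copRich_of_bn'` : `copRich_of_bn` without assuming that `U` is a Sylow subgroup.
-/

set_option autoImplicit false
set_option linter.unusedSectionVars false

namespace Cfsg.Agent.H566

open Subgroup Cfsg.Agent.Schreier.Tools Cfsg.Agent.Schreier.BNSch

variable {K : Type*} [Group K]

theorem odd_of_coprime {A : Subgroup (MulAut K)} (hcop : (Nat.card A).Coprime (Nat.card K)) (h2 : 2 ∣ Nat.card K) :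
    Odd (Nat.card A) := by
  rw [← Nat.not_even_iff_odd, even_iff_two_dvd]
  intro h
  have := Nat.dvd_gcd h h2
  rw [hcop] at this
  omega

/-- every element of a group of odd order is a square -/
theorem exists_sq {A : Subgroup (MulAut K)} (hodd : Odd (Nat.card A)) {α : MulAut K} (hα : α ∈ A) :
    ∃ γ ∈ A, α = γ * γ := by
  obtain ⟨k, hk⟩ := hodd
  have h2 : (⟨α, hα⟩ : A) ^ Nat.card A = 1 := pow_card_eq_one'
  have h3 : α ^ (2 * k + 1) = 1 := by
    rw [← hk]
    exact congrArg Subtype.val h2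
  refine ⟨α ^ (k + 1), pow_mem hα _, ?_⟩
  rw [← pow_add, show k + 1 + (k + 1) = (2 * k + 1) + 1 by ring, pow_succ, h3, one_mul]

/-- A group of odd order fixes the members of an invariant set of at most two subgroups. -/
theorem stab_of_family {A : Subgroup (MulAut K)} (hodd : Odd (Nat.card A)) (T : Set (Subgroup K)) (hfin : T.Finite)
    (hT : T.ncard ≤ 2) (h : ∀ α ∈ A, ∀ H ∈ T, H.map α.toMonoidHom ∈ T) : ∀ H ∈ T, Stab A H := by
  intro H hH
  rw [stab_iff]
  intro α hα
  obtain ⟨γ, hγ, rfl⟩ := exists_sq hodd hα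
  have hmm : H.map (γ * γ).toMonoidHom = (H.map γ.toMonoidHom).map γ.toMonoidHom := by
    rw [Subgroup.map_map]; rfl
  have h1 := h γ hγ H hH
  have h2 := h γ hγ _ h1
  rw [hmm]
  by_contra hne
  have h3 : H.map γ.toMonoidHom ≠ H := fun e => hne (by rw [e, e])
  have h4 : (H.map γ.toMonoidHom).map γ.toMonoidHom ≠ H.map γ.toMonoidHom := fun e =>
    h3 (Subgroup.map_injective (f := γ.toMonoidHom) γ.injective e)
  have h5 : ({H, H.map γ.toMonoidHom, (H.map γ.toMonoidHom).map γ.toMonoidHom} : Set (Subgroup K)) ⊆ T := by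
    rintro x (rfl | rfl | rfl)
    · exact hH
    · exact h1
    · exact h2
  have h6 := Set.ncard_le_ncard h5 hfin
  have h7 : ({H, H.map γ.toMonoidHom, (H.map γ.toMonoidHom).map γ.toMonoidHom} : Set (Subgroup K)).ncard = 3 :=
    Set.ncard_eq_three.2 ⟨_, _, _, fun e => h3 e.symm, fun e => hne e.symm, fun e => h4 e.symm, rfl⟩
  omega

variable [Finite K]

/-- At most two nodes. -/
theorem stab_of_card_le_two (P : Cfsg.BNPair K) (h2 : Nat.card P.S ≤ 2) {A : Subgroup (MulAut K)}
    (hodd : Odd (Nat.card A)) (hB : Stab A P.B) {s : K} (hs : s ∈ P.S) : Stab A (P.parabolic {s}) := by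
  refine stab_of_family hodd ((fun t => P.parabolic {t}) '' P.S) (Set.toFinite _) ?_ ?_ _ ⟨s, hs, rfl⟩
  · exact (Set.ncard_image_le (Set.toFinite _)).trans (by rwa [Nat.card_coe_set_eq] at h2)
  · rintro φ hφ _ ⟨t, ht, rfl⟩
    obtain ⟨t', ht', h⟩ := exists_map_eq P φ (stab_iff.1 hB φ hφ) ht
    exact ⟨t', ht', h.symm⟩

/-- Nodes whose valency occurs at most twice. -/
theorem stab_of_valency (P : Cfsg.BNPair K) {ι : Type*} [Fintype ι] (s : ι → K) (hs : Set.range s = P.S)
    (hinj : Function.Injective s) (adj : ι → ι → Prop) [DecidableRel adj] (hirr : ∀ i, ¬ adj i i)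
    (hadj : ∀ i j, i ≠ j → (adj i j ↔ s i * s j * (s i)⁻¹ * (s j)⁻¹ ∉ P.B)) (i : ι)
    (hv : (Finset.univ.filter fun k =>
      (Finset.univ.filter fun j => adj k j).card = (Finset.univ.filter fun j => adj i j).card).card ≤ 2)
    {A : Subgroup (MulAut K)} (hodd : Odd (Nat.card A)) (hB : Stab A P.B) : Stab A (P.parabolic {s i}) := by
  classical
  have hval : ∀ (σ : Equiv.Perm ι), (∀ i j, adj (σ i) (σ j) ↔ adj i j) → ∀ i,
      (Finset.univ.filter fun j => adj (σ i) j).card = (Finset.univ.filter fun j => adj i j).card := by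
    intro σ hσ i
    symm
    apply Finset.card_bij (fun j _ => σ j)
    · intro j hj
      rw [Finset.mem_filter] at hj ⊢
      exact ⟨Finset.mem_univ _, (hσ i j).2 hj.2⟩
    · intro a _ b _ h
      exact σ.injective h
    · intro j hj
      rw [Finset.mem_filter] at hj
      refine ⟨σ.symm j, ?_, by simp⟩
      rw [Finset.mem_filter]
      refine ⟨Finset.mem_univ _, (hσ i _).1 ?_⟩
      rw [Equiv.apply_symm_apply]
      exact hj.2
  set T : Finset ι := Finset.univ.filter fun k =>
    (Finset.univ.filter fun j => adj k j).card = (Finset.univ.filter fun j => adj i j).card with hT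
  refine stab_of_family hodd ((fun j => P.parabolic {s j}) '' (T : Set ι)) (Set.toFinite _) ?_ ?_ _ ⟨i, ?_, rfl⟩
  · refine (Set.ncard_image_le (Set.toFinite _)).trans ?_
    rw [Set.ncard_coe_finset]
    exact hv
  · rintro φ hφ _ ⟨k, hk, rfl⟩
    obtain ⟨σ, h1, h2⟩ := Schreier.BNGraph.exists_perm P s hs hinj adj hirr hadj φ (stab_iff.1 hB φ hφ)
    refine ⟨σ k, ?_, (h1 k).symm⟩
    rw [Finset.mem_coe, hT, Finset.mem_filter] at hk ⊢
    exact ⟨Finset.mem_univ _, by rw [hval σ h2]; exact hk.2⟩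
  · rw [Finset.mem_coe, hT, Finset.mem_filter]
    exact ⟨Finset.mem_univ _, rfl⟩

/-- **The theorem for groups with a (B, N)-pair**, `U` not assumed to be a Sylow subgroup. -/
theorem copRich_of_bn' (P : Cfsg.BNPair K) {p : ℕ} [hp : Fact p.Prime] (U : Subgroup K) (hUp : IsPGroup p U)
    (h2 : 2 ∣ Nat.card K)
    (hUB : U ≤ P.B) (hBU : ∀ b ∈ P.B, ∀ u ∈ U, b * u * b⁻¹ ∈ U)
    (hUN : ∀ b ∈ P.B, ∃ u ∈ U, u⁻¹ * b ∈ P.N)
    (m : ℕ) (hm : ¬ p ∣ m) (hH : ∀ h ∈ P.B, h ∈ P.N → h ^ m = 1)
    (hnode : ∀ s ∈ P.S, ∃ V, Node P U s V) {s : K} (hs : s ∈ P.S) {V : Subgroup K} (hN : Node P U s V)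
    (hperm : ∀ A : Subgroup (MulAut K), Odd (Nat.card A) → Stab A P.B → Stab A (P.parabolic {s}))
    {Z : Subgroup K} (hZU : Z ≤ U) (hZ : ∀ A : Subgroup (MulAut K), Stab A U → Stab A Z)
    (htwo : ∃ u₀ ∈ Z, u₀ ∉ V ∧ ∃ u₁ ∈ Z, u₁ ∉ V ∧ ∀ u ∈ Z, u ∉ V → Orb P.B V u₀ u ∨ Orb P.B V u₁ u) :
    CopRich K := by
  have hB : Subgroup.normalizer (U : Set K) = P.B := by
    refine normalizer_eq P _ hUB hBU fun s hs => ?_
    obtain ⟨V, hV⟩ := hnode s hs
    obtain ⟨u, hu, huV⟩ := hV.ne
    exact ⟨u, hu, fun h => huV (hV.stab u hu h)⟩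
  have hcop : ¬ p ∣ U.relIndex (Subgroup.normalizer (U : Set K)) := by
    rw [hB]
    intro h
    have hn : (U.subgroupOf P.B).Normal := by
      constructor
      intro u hu b
      rw [Subgroup.mem_subgroupOf] at hu ⊢
      exact hBU b b.2 u hu
    have h1 : p ∣ Nat.card (P.B ⧸ U.subgroupOf P.B) := h
    obtain ⟨x, hx⟩ := exists_prime_orderOf_dvd_card' p h1
    induction x using QuotientGroup.induction_on with
    | H b =>
      obtain ⟨u, hu, hun⟩ := hUN b b.2
      have h2 : u⁻¹ * (b : K) ∈ P.B := mul_mem (inv_mem (hUB hu)) b.2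
      have h3 : (QuotientGroup.mk b : P.B ⧸ U.subgroupOf P.B) = QuotientGroup.mk (⟨u⁻¹ * b, h2⟩ : P.B) := by
        rw [QuotientGroup.eq, Subgroup.mem_subgroupOf]
        show (b : K)⁻¹ * (u⁻¹ * b) ∈ U
        have h4 := hBU (b : K)⁻¹ (inv_mem b.2) _ (inv_mem hu)
        rw [inv_inv] at h4
        rwa [← mul_assoc]
      have h4 : (QuotientGroup.mk b : P.B ⧸ U.subgroupOf P.B) ^ m = 1 := by
        rw [h3, ← QuotientGroup.mk_pow]
        have h5 : (⟨u⁻¹ * b, h2⟩ : P.B) ^ m = 1 := by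
          apply Subtype.ext
          exact hH _ h2 hun
        rw [h5]
        rfl
      exact hm (hx ▸ orderOf_dvd_of_pow_eq_one h4)
  obtain ⟨S, rfl⟩ := Schreier.BNUse.exists_sylow U hUp hcop
  exact copRich_of_bn P S h2 hB hUN hs hN (fun A hA => hperm A (odd_of_coprime hA h2)) hZU hZ htwo

end Cfsg.Agent.H566
end

-- part: H520/Red
section
prune_inst 0x22120000000000200000000000000200400000104000000006504800010000400008100012840000040020024c0000000000000000000000000120900242001240010c860009802003180c00000000000000000000000000041000000000000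
set_option linter.all false
open scoped Cfsg.Agent.FastGrp

/-!
# Commutators `g⁻¹ α(g)` of a coprime automorphism: reduction to simple groups (helper520)

* `cI α`, `cG α` : the set of the elements `g⁻¹ α(g)` and the normal subgroup `[G, α]` generated by it;
* `resA`, `quoA` : the automorphisms induced on an invariant subgroup, on a quotient;
* `red` : for an inherited property `P` of pairs `(G, α)` the group `[G, α]` is solvable (`α` of order coprime to `G`),
  if this holds for the simple groups all of whose proper invariant subgroups `M` have `[M, α]` solvable.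
-/

set_option autoImplicit false
set_option linter.unusedSectionVars false

namespace Cfsg.Agent.H520

open Subgroup Cfsg.Agent.H566

universe u

section Basic

variable {G : Type*} [Group G]

/-- the commutators `g⁻¹ α(g)` -/
def cI (α : MulAut G) : Set G := {y | ∃ g : G, y = g⁻¹ * α g}

/-- the subgroup `[G, α]` -/
def cG (α : MulAut G) : Subgroup G := closure (cI α)

/-- the commutators `m⁻¹ α(m)`, `m ∈ M` -/
def cIM (α : MulAut G) (M : Subgroup G) : Set G := {y | ∃ m ∈ M, y = m⁻¹ * α m}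

/-- the subgroup `[M, α]` -/
def cM (α : MulAut G) (M : Subgroup G) : Subgroup G := closure (cIM α M)

theorem mem_cI (α : MulAut G) (g : G) : g⁻¹ * α g ∈ cI α := ⟨g, rfl⟩

theorem mem_cG (α : MulAut G) (g : G) : g⁻¹ * α g ∈ cG α := subset_closure (mem_cI α g)

theorem mem_cM (α : MulAut G) {M : Subgroup G} {g : G} (hg : g ∈ M) : g⁻¹ * α g ∈ cM α M := subset_closure ⟨g, hg, rfl⟩

theorem cM_mono (α : MulAut G) {M N : Subgroup G} (h : M ≤ N) : cM α M ≤ cM α N :=
  closure_mono fun _ ⟨m, hm, e⟩ => ⟨m, h hm, e⟩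

theorem cM_top (α : MulAut G) : cM α ⊤ = cG α := by
  unfold cM cG
  congr 1
  ext y
  constructor
  · rintro ⟨m, -, e⟩
    exact ⟨m, e⟩
  · rintro ⟨m, e⟩
    exact ⟨m, mem_top m, e⟩

theorem cM_le (α : MulAut G) {M : Subgroup G} (hM : ∀ m ∈ M, α m ∈ M) : cM α M ≤ M := by
  rw [cM, closure_le]
  rintro _ ⟨m, hm, rfl⟩
  exact mul_mem (inv_mem hm) (hM m hm)

/-- `[G, α]` is normal. -/
theorem cG_normal (α : MulAut G) : (cG α).Normal := by
  have key : ∀ x : G, ∀ y ∈ cG α, x⁻¹ * y * x ∈ cG α := by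
    intro x y hy
    unfold cG at hy
    induction hy using closure_induction with
    | mem y hy =>
      obtain ⟨g, rfl⟩ := hy
      have h1 : x⁻¹ * (g⁻¹ * α g) * x = ((g * x)⁻¹ * α (g * x)) * (x⁻¹ * α x)⁻¹ := by
        rw [map_mul]; group
      rw [h1]
      exact mul_mem (mem_cG α _) (inv_mem (mem_cG α _))
    | one => simp
    | mul a b _ _ ha hb =>
      have h1 : x⁻¹ * (a * b) * x = (x⁻¹ * a * x) * (x⁻¹ * b * x) := by group
      rw [h1]
      exact mul_mem ha hb
    | inv a _ ha =>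
      have h1 : x⁻¹ * a⁻¹ * x = (x⁻¹ * a * x)⁻¹ := by group
      rw [h1]
      exact inv_mem ha
  constructor
  intro y hy x
  have := key x⁻¹ y hy
  rwa [inv_inv] at this

/-- `[G, α]` is `α`-invariant. -/
theorem cG_inv (α : MulAut G) : ∀ y ∈ cG α, α y ∈ cG α := by
  intro y hy
  unfold cG at hy
  induction hy using closure_induction with
  | mem y hy =>
    obtain ⟨g, rfl⟩ := hy
    have h1 : α (g⁻¹ * α g) = (α g)⁻¹ * α (α g) := by rw [map_mul, map_inv]
    rw [h1]
    exact mem_cG α _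
  | one => simp
  | mul a b _ _ ha hb => rw [map_mul]; exact mul_mem ha hb
  | inv a _ ha => rw [map_inv]; exact inv_mem ha

/-- iterates -/
theorem pow_apply_of_fixed {α : MulAut G} {g : G} (h : α (g⁻¹ * α g) = g⁻¹ * α g) (k : ℕ) :
    (α ^ k : MulAut G) g = g * (g⁻¹ * α g) ^ k := by
  induction k with
  | zero => simp
  | succ k ih =>
    rw [pow_succ', MulAut.mul_apply, ih, map_mul, map_pow, h]
    rw [pow_succ', ← mul_assoc g, mul_inv_cancel_left]

/-- **Coprime action**: if `g⁻¹ α(g)` is fixed by `α` then `α(g) = g`. -/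
theorem eq_of_fixed [Finite G] {α : MulAut G} (hα : (orderOf α).Coprime (Nat.card G)) {g : G}
    (h : α (g⁻¹ * α g) = g⁻¹ * α g) : α g = g := by
  have h1 := pow_apply_of_fixed h (orderOf α)
  rw [pow_orderOf_eq_one] at h1
  have h2 : (g⁻¹ * α g) ^ orderOf α = 1 := by
    have h3 : g = g * (g⁻¹ * α g) ^ orderOf α := h1
    exact (mul_eq_left.mp h3.symm)
  have h3 : g⁻¹ * α g = 1 := by
    have h4 := orderOf_dvd_of_pow_eq_one h2
    have h5 : orderOf (g⁻¹ * α g) ∣ Nat.card G := orderOf_dvd_natCard _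
    have h6 := Nat.dvd_gcd h4 h5
    rw [hα] at h6
    exact orderOf_eq_one_iff.mp (Nat.dvd_one.mp h6)
  exact (inv_mul_eq_one.mp h3).symm

/-- an automorphism of a finite group maps an invariant subgroup onto itself -/
theorem map_eq_of_inv [Finite G] {α : MulAut G} {M : Subgroup G} (hM : ∀ m ∈ M, α m ∈ M) :
    M.map α.toMonoidHom = M := by
  have h1 : M.map α.toMonoidHom ≤ M := by
    rintro _ ⟨m, hm, rfl⟩
    exact hM m hm
  exact eq_of_le_of_card_ge h1
    (le_of_eq (Nat.card_congr (M.equivMapOfInjective α.toMonoidHom α.injective).toEquiv))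

theorem symm_mem_of_inv [Finite G] {α : MulAut G} {M : Subgroup G} (hM : ∀ m ∈ M, α m ∈ M) {m : G} (hm : m ∈ M) :
    α⁻¹ m ∈ M := by
  have h1 := map_eq_of_inv hM
  have h2 : m ∈ M.map α.toMonoidHom := by rw [h1]; exact hm
  obtain ⟨x, hx, hxm⟩ := h2
  have h3 : α⁻¹ m = x := by
    rw [← hxm]
    exact MulAut.inv_apply_self _ α x
  rw [h3]
  exact hx

/-- restriction to an invariant subgroup -/
def resA [Finite G] (α : MulAut G) (M : Subgroup G) (hM : ∀ m ∈ M, α m ∈ M) : MulAut ↥M where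
  toFun m := ⟨α m.1, hM m.1 m.2⟩
  invFun m := ⟨α⁻¹ m.1, symm_mem_of_inv hM m.2⟩
  left_inv m := Subtype.ext (MulAut.inv_apply_self _ α m.1)
  right_inv m := Subtype.ext (MulAut.apply_inv_self _ α m.1)
  map_mul' a b := Subtype.ext (map_mul α a.1 b.1)

theorem resA_coe [Finite G] (α : MulAut G) (M : Subgroup G) (hM : ∀ m ∈ M, α m ∈ M) (m : ↥M) :
    ((resA α M hM m : ↥M) : G) = α m.1 := rfl

theorem resA_pow_coe [Finite G] (α : MulAut G) (M : Subgroup G) (hM : ∀ m ∈ M, α m ∈ M) (k : ℕ) (m : ↥M) :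
    ((((resA α M hM) ^ k : MulAut ↥M) m : ↥M) : G) = (α ^ k : MulAut G) m.1 := by
  induction k generalizing m with
  | zero => rfl
  | succ k ih =>
    rw [pow_succ', pow_succ', MulAut.mul_apply, MulAut.mul_apply, resA_coe, ih]

theorem orderOf_resA_dvd [Finite G] (α : MulAut G) (M : Subgroup G) (hM : ∀ m ∈ M, α m ∈ M) :
    orderOf (resA α M hM) ∣ orderOf α := by
  apply orderOf_dvd_of_pow_eq_one
  apply MulEquiv.ext
  intro m
  apply Subtype.ext
  rw [resA_pow_coe, pow_orderOf_eq_one]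
  rfl

theorem coprime_resA [Finite G] {α : MulAut G} (hα : (orderOf α).Coprime (Nat.card G)) (M : Subgroup G)
    (hM : ∀ m ∈ M, α m ∈ M) : (orderOf (resA α M hM)).Coprime (Nat.card M) :=
  (hα.coprime_dvd_left (orderOf_resA_dvd α M hM)).coprime_dvd_right (card_subgroup_dvd_card M)

/-- `[M, α]` as a subgroup of `M`. -/
theorem map_cG_resA [Finite G] (α : MulAut G) (M : Subgroup G) (hM : ∀ m ∈ M, α m ∈ M) :
    (cG (resA α M hM)).map M.subtype = cM α M := by
  unfold cG cM
  rw [MonoidHom.map_closure]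
  congr 1
  ext y
  constructor
  · rintro ⟨_, ⟨m, rfl⟩, rfl⟩
    exact ⟨m.1, m.2, rfl⟩
  · rintro ⟨m, hm, rfl⟩
    exact ⟨(⟨m, hm⟩ : ↥M)⁻¹ * resA α M hM ⟨m, hm⟩, ⟨⟨m, hm⟩, rfl⟩, rfl⟩

theorem solvable_cM_iff [Finite G] (α : MulAut G) (M : Subgroup G) (hM : ∀ m ∈ M, α m ∈ M) :
    Group.IsSolvable (cM α M) ↔ Group.IsSolvable (cG (resA α M hM)) := by
  have e : ↥(cG (resA α M hM)) ≃* ↥(cM α M) :=
    ((cG (resA α M hM)).equivMapOfInjective M.subtype M.subtype_injective).trans
      (MulEquiv.subgroupCongr (map_cG_resA α M hM))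
  constructor
  · intro h
    exact Group.isSolvable_of_isSolvable_injective (f := e.toMonoidHom) e.injective
  · intro h
    exact Group.isSolvable_of_isSolvable_injective (f := e.symm.toMonoidHom) e.symm.injective

/-- the automorphism of the quotient -/
def quoA [Finite G] (α : MulAut G) (N : Subgroup G) [N.Normal] (hN : ∀ m ∈ N, α m ∈ N) : MulAut (G ⧸ N) :=
  QuotientGroup.congr N N α (map_eq_of_inv hN)

theorem quoA_mk [Finite G] (α : MulAut G) (N : Subgroup G) [N.Normal] (hN : ∀ m ∈ N, α m ∈ N) (g : G) :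
    quoA α N hN (QuotientGroup.mk g) = QuotientGroup.mk (α g) := rfl

theorem quoA_pow_mk [Finite G] (α : MulAut G) (N : Subgroup G) [N.Normal] (hN : ∀ m ∈ N, α m ∈ N) (k : ℕ) (g : G) :
    ((quoA α N hN) ^ k : MulAut (G ⧸ N)) (QuotientGroup.mk g) = QuotientGroup.mk ((α ^ k : MulAut G) g) := by
  induction k generalizing g with
  | zero => rfl
  | succ k ih =>
    rw [pow_succ', pow_succ', MulAut.mul_apply, MulAut.mul_apply, ih, quoA_mk]

theorem orderOf_quoA_dvd [Finite G] (α : MulAut G) (N : Subgroup G) [N.Normal] (hN : ∀ m ∈ N, α m ∈ N) :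
    orderOf (quoA α N hN) ∣ orderOf α := by
  apply orderOf_dvd_of_pow_eq_one
  apply MulEquiv.ext
  intro m
  obtain ⟨g, rfl⟩ := QuotientGroup.mk_surjective m
  rw [quoA_pow_mk, pow_orderOf_eq_one]
  rfl

theorem coprime_quoA [Finite G] {α : MulAut G} (hα : (orderOf α).Coprime (Nat.card G)) (N : Subgroup G) [N.Normal]
    (hN : ∀ m ∈ N, α m ∈ N) : (orderOf (quoA α N hN)).Coprime (Nat.card (G ⧸ N)) :=
  (hα.coprime_dvd_left (orderOf_quoA_dvd α N hN)).coprime_dvd_right (card_quotient_dvd_card N)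

theorem map_cG_quoA [Finite G] (α : MulAut G) (N : Subgroup G) [N.Normal] (hN : ∀ m ∈ N, α m ∈ N) :
    (cG α).map (QuotientGroup.mk' N) = cG (quoA α N hN) := by
  unfold cG
  rw [MonoidHom.map_closure]
  congr 1
  ext y
  constructor
  · rintro ⟨_, ⟨g, rfl⟩, rfl⟩
    exact ⟨QuotientGroup.mk g, rfl⟩
  · rintro ⟨y, rfl⟩
    obtain ⟨g, rfl⟩ := QuotientGroup.mk_surjective y
    exact ⟨g⁻¹ * α g, ⟨g, rfl⟩, rfl⟩

/-- If `α` is trivial on the normal invariant subgroup `M` then `[G, α]` centralises `M`. -/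
theorem cG_le_centralizer (α : MulAut G) {M : Subgroup G} [M.Normal] (h : ∀ m ∈ M, α m = m) :
    cG α ≤ centralizer (M : Set G) := by
  rw [cG, closure_le]
  rintro _ ⟨g, rfl⟩
  rw [SetLike.mem_coe, mem_centralizer_iff]
  intro m hm
  have h1 : α (g * m * g⁻¹) = g * m * g⁻¹ := h _ (‹M.Normal›.conj_mem _ hm g)
  rw [map_mul, map_mul, map_inv, h m hm] at h1
  -- α g * m * (α g)⁻¹ = g * m * g⁻¹
  have h2 : (g⁻¹ * α g) * m = m * (g⁻¹ * α g) := by
    calc (g⁻¹ * α g) * m = g⁻¹ * (α g * m * (α g)⁻¹) * α g := by group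
      _ = g⁻¹ * (g * m * g⁻¹) * α g := by rw [h1]
      _ = m * (g⁻¹ * α g) := by group
  exact h2.symm

theorem centralizer_inv [Finite G] (α : MulAut G) {M : Subgroup G} (hM : ∀ m ∈ M, α m ∈ M) :
    ∀ x ∈ centralizer (M : Set G), α x ∈ centralizer (M : Set G) := by
  intro x hx
  rw [mem_centralizer_iff] at hx ⊢
  intro m hm
  have h1 := hx _ (symm_mem_of_inv hM hm)
  have h2 : α (α⁻¹ m * x) = α (x * α⁻¹ m) := by rw [h1]
  rw [map_mul, map_mul, MulAut.apply_inv_self] at h2
  exact h2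

/-- the largest solvable normal subgroup -/
theorem exists_rad (G : Type*) [Group G] [Finite G] :
    ∃ R : Subgroup G, R.Normal ∧ Group.IsSolvable R ∧ ∀ N : Subgroup G, N.Normal → Group.IsSolvable N → N ≤ R := by
  obtain ⟨R, ⟨hR1, hR2⟩, hmax⟩ := Set.exists_max_image {N : Subgroup G | N.Normal ∧ Group.IsSolvable N}
    (fun N : Subgroup G => Nat.card N) (Set.toFinite _) ⟨⊥, inferInstance, inferInstance⟩
  refine ⟨R, hR1, hR2, fun N hN hNs => ?_⟩
  have h1 : Group.IsSolvable ↥(R ⊔ N) :=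
    Cfsg.Agent.SignalizersComponents.ComponentExists.isSolvable_sup_of_normal hR2 hNs
  have h2 : Nat.card ↥(R ⊔ N) ≤ Nat.card R := hmax _ ⟨inferInstance, h1⟩
  have h3 : R = R ⊔ N := eq_of_le_of_card_ge le_sup_left h2
  rw [h3]
  exact le_sup_right

theorem map_solvable_equiv {G : Type*} [Group G] {R : Subgroup G} (h : Group.IsSolvable R) (φ : MulAut G) :
    Group.IsSolvable (R.map φ.toMonoidHom) := by
  have e : ↥R ≃* ↥(R.map φ.toMonoidHom) := R.equivMapOfInjective φ.toMonoidHom φ.injective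
  exact Group.isSolvable_of_isSolvable_injective (f := e.symm.toMonoidHom) e.symm.injective

end Basic

section Red

/-- **Reduction to simple groups.** -/
theorem red (P : ∀ (G : Type u) [Group G], MulAut G → Prop)
    (hres : ∀ (G : Type u) [Group G] [Finite G] (α : MulAut G) (M : Subgroup G) (hM : ∀ m ∈ M, α m ∈ M),
      P G α → P M (resA α M hM))
    (hquo : ∀ (G : Type u) [Group G] [Finite G] (α : MulAut G) (N : Subgroup G) [N.Normal] (hN : ∀ m ∈ N, α m ∈ N),
      P G α → P (G ⧸ N) (quoA α N hN))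
    (hperm : ∀ (G : Type u) [Group G] [Finite G] (α : MulAut G) (T : Subgroup G), T ∈ NSim G →
      T.map α.toMonoidHom ≠ T → ¬ P G α)
    (hsim : ∀ (K : Type u) [Group K] [Finite K] [IsSimpleGroup K], (¬ ∀ a b : K, a * b = b * a) →
      ∀ α : MulAut K, α ≠ 1 → (orderOf α).Coprime (Nat.card K) → 
      (∀ M : Subgroup K, M ≠ ⊤ → (∀ m ∈ M, α m ∈ M) → Group.IsSolvable (cM α M)) → ¬ P K α) :
    ∀ (G : Type u) [Group G] [Finite G] (α : MulAut G), (orderOf α).Coprime (Nat.card G) → P G α →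
      Group.IsSolvable (cG α) := by
  intro G _ _
  induction hn : Nat.card G using Nat.strong_induction_on generalizing G with
  | _ n ih =>
  subst hn
  intro α hα hP
  by_contra hns
  -- proper invariant subgroups
  have hsub : ∀ M : Subgroup G, M ≠ ⊤ → (∀ m ∈ M, α m ∈ M) → Group.IsSolvable (cM α M) := by
    intro M hMt hM
    rw [solvable_cM_iff α M hM]
    refine ih (Nat.card M) ?_ M rfl _ (coprime_resA hα M hM) (hres G α M hM hP)
    exact lt_of_le_of_ne M.card_le_card_group fun h => hMt (eq_top_of_card_eq M h)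
  -- no solvable invariant normal subgroups
  have hrad : ∀ N : Subgroup G, N.Normal → (∀ m ∈ N, α m ∈ N) → Group.IsSolvable N → N = ⊥ := by
    intro N hN hNi hNs
    by_contra hb
    apply hns
    have h1 : Nat.card (G ⧸ N) < Nat.card G := by
      have h2 : 1 < Nat.card N := by
        rw [one_lt_card_iff_ne_bot]; exact hb
      have h3 := card_eq_card_quotient_mul_card_subgroup N
      have h4 : 0 < Nat.card (G ⧸ N) := Nat.card_pos
      nlinarith
    have h2 := ih _ h1 (G ⧸ N) rfl _ (coprime_quoA hα N hNi) (hquo G α N hNi hP)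
    rw [← map_cG_quoA] at h2
    have : (N.subgroupOf (cG α)).Normal := inferInstance
    rw [Group.isSolvable_iff_subgroup_quotient (N.subgroupOf (cG α))]
    constructor
    · exact Group.isSolvable_of_isSolvable_injective
        (f := (((cG α).subtype.comp (N.subgroupOf (cG α)).subtype).codRestrict N fun x => x.2))
        (fun a b hab => Subtype.ext (Subtype.ext (by
          have h9 := congrArg (fun z : ↥N => (z : G)) hab
          exact h9)))
    · let f : ↥(cG α) →* ↥((cG α).map (QuotientGroup.mk' N)) := (QuotientGroup.mk' N).subgroupMap (cG α)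
      have hk : f.ker = N.subgroupOf (cG α) := by
        ext x
        rw [MonoidHom.mem_ker, mem_subgroupOf]
        constructor
        · intro hx
          have h5 : QuotientGroup.mk' N (x : G) = 1 := congrArg Subtype.val hx
          exact (QuotientGroup.eq_one_iff _).1 h5
        · intro hx
          apply Subtype.ext
          exact (QuotientGroup.eq_one_iff _).2 hx
      have e : ↥(cG α) ⧸ N.subgroupOf (cG α) ≃* ↥((cG α).map (QuotientGroup.mk' N)) :=
        (QuotientGroup.quotientMulEquivOfEq hk.symm).trans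
          (QuotientGroup.quotientKerEquivOfSurjective f ((QuotientGroup.mk' N).subgroupMap_surjective (cG α)))
      exact Group.isSolvable_of_isSolvable_injective (f := e.toMonoidHom) e.injective
  -- `α` centralises the proper invariant normal subgroups
  have htriv : ∀ M : Subgroup G, M ≠ ⊤ → M.Normal → (∀ m ∈ M, α m ∈ M) → ∀ m ∈ M, α m = m := by
    intro M hMt hMn hM
    -- the largest solvable normal subgroup of `M`
    obtain ⟨R, hR1, hR2, hR3⟩ := exists_rad M
    have hRinv : ∀ φ : MulAut M, ∀ r ∈ R, φ r ∈ R := by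
      intro φ r hr
      exact hR3 _ (hR1.map _ φ.surjective) (map_solvable_equiv hR2 φ) (mem_map_of_mem _ hr)
    have hRG : (R.map M.subtype).Normal := by
      constructor
      rintro _ ⟨r, hr, rfl⟩ g
      refine ⟨MulAut.conjNormal g r, hRinv _ _ hr, ?_⟩
      simp
    have hRb : R.map M.subtype = ⊥ := by
      apply hrad _ hRG
      · rintro _ ⟨r, hr, rfl⟩
        exact ⟨resA α M hM r, hRinv _ _ hr, rfl⟩
      · have e : ↥R ≃* ↥(R.map M.subtype) := R.equivMapOfInjective M.subtype M.subtype_injective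
        exact Group.isSolvable_of_isSolvable_injective (f := e.symm.toMonoidHom) e.symm.injective
    have hc : cM α M = ⊥ := by
      rw [← map_cG_resA α M hM, eq_bot_iff, ← hRb]
      apply map_mono
      exact hR3 _ (cG_normal _) ((solvable_cM_iff α M hM).1 (hsub M hMt hM))
    intro m hm
    have := mem_cM α hm
    rw [hc, mem_bot] at this
    exact (inv_mul_eq_one.mp this).symm
  have hG1 : cG α ≠ ⊥ := fun h => hns (by rw [h]; infer_instance)
  -- no invariant normal subgroups
  have hmin : ∀ M : Subgroup G, M.Normal → (∀ m ∈ M, α m ∈ M) → M = ⊥ ∨ M = ⊤ := by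
    intro M hMn hM
    by_contra hcon
    push Not at hcon
    obtain ⟨hb, ht⟩ := hcon
    have h1 := cG_le_centralizer α (htriv M ht hMn hM)
    have h2 := centralizer_inv α hM
    have hCt : centralizer (M : Set G) ≠ ⊤ := by
      intro h
      apply hb
      apply hrad M hMn hM
      apply Group.isSolvable_of_comm
      intro a b
      apply Subtype.ext
      have h3 : (a : G) ∈ centralizer (M : Set G) := by rw [h]; trivial
      exact (mem_centralizer_iff.1 h3 b b.2).symm
    have hCn : (centralizer (M : Set G)).Normal := inferInstance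
    have h4 := htriv _ hCt hCn h2
    apply hG1
    rw [eq_bot_iff, cG, closure_le]
    rintro _ ⟨g, rfl⟩
    rw [SetLike.mem_coe, mem_bot]
    have h5 : α (g⁻¹ * α g) = g⁻¹ * α g := h4 _ (h1 (mem_cG α g))
    rw [eq_of_fixed hα h5, inv_mul_cancel]
  have hna : ¬ ∀ a b : G, a * b = b * a := by
    intro h
    apply hns
    apply Group.isSolvable_of_comm
    intro a b
    exact Subtype.ext (h a b)
  obtain ⟨T, hT⟩ := exists_nsim (A := zpowers α) hna (by
    intro N hN hst
    exact hmin N hN fun m hm => hst α (mem_zpowers α) m hm)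
  by_cases hTα : T.map α.toMonoidHom = T
  · -- `G = T` is simple
    have hTi : ∀ m ∈ T, α m ∈ T := by
      intro m hm
      rw [← hTα]
      exact mem_map_of_mem _ hm
    have hTs := hT.2.1
    have hTt : T = ⊤ := by
      rcases hmin T hT.1 hTi with h | h
      · exfalso
        apply hT.2.2
        intro a ha b hb
        rw [h, mem_bot] at ha hb
        rw [ha, hb]
      · exact h
    have hGs : IsSimpleGroup G := by
      have e : ↥T ≃* G := (MulEquiv.subgroupCongr hTt).trans Subgroup.topEquiv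
      exact e.symm.isSimpleGroup
    have hα1 : α ≠ 1 := by
      rintro rfl
      apply hG1
      rw [eq_bot_iff, cG, closure_le]
      rintro _ ⟨g, rfl⟩
      rw [SetLike.mem_coe, mem_bot]
      simp
    exact hsim G hna α hα1 hα hsub hP
  · exact hperm G α T hT hTα hP

end Red

/-! ### A permuted simple factor -/

section Perm

variable {G : Type u} [Group G]

/-- If `α` moves the simple factor `T` then every element of `T` is the `T`-component of an element of `I`. -/
theorem exists_proj [Finite G] (α : MulAut G) (T : Subgroup G) (hT : T ∈ NSim G) (hm : T.map α.toMonoidHom ≠ T) :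
    ∃ (Q : Type u) (_ : Group Q) (f : G →* Q), (∀ t ∈ T, f t = 1 → t = 1) ∧
      ∀ t ∈ T, f ((t⁻¹)⁻¹ * α t⁻¹) = f t := by
  have hTn := hT.1
  refine ⟨G ⧸ centralizer (T : Set G), inferInstance, QuotientGroup.mk' _, ?_, ?_⟩
  · intro t ht h1
    have h2 : t ∈ centralizer (T : Set G) := (QuotientGroup.eq_one_iff t).1 h1
    have h3 : (T ⊓ centralizer (T : Set G)).Normal := inferInstance
    rcases NSim.eq_or hT h3 inf_le_left with h4 | h4
    · have : t ∈ T ⊓ centralizer (T : Set G) := ⟨ht, h2⟩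
      rwa [h4, mem_bot] at this
    · exfalso
      apply hT.2.2
      intro a ha b hb
      exact mem_centralizer_iff.1 (inf_eq_left.1 h4 hb) a ha
  · intro t ht
    rw [map_mul, inv_inv]
    have h1 : α t⁻¹ ∈ centralizer (T : Set G) := by
      rw [mem_centralizer_iff]
      intro s hs
      exact (NSim.comm (NSim.map hT α) hT hm (mem_map_of_mem _ (inv_mem ht)) hs).symm
    have h2 : (QuotientGroup.mk' (centralizer (T : Set G))) (α t⁻¹) = 1 := (QuotientGroup.eq_one_iff _).2 h1
    rw [h2, mul_one]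

end Perm

end Cfsg.Agent.H520

private theorem dce_c03fe5248a79 : _root_.True := by
  try have : _root_.True := by simp only [_root_.Cfsg.Agent.H520.cM.eq_1]
  try have : _root_.True := by simp only [_root_.Cfsg.Agent.H520.cG.eq_1]
  exact _root_.True.intro
end

-- part: H520/CcpCfg
section
prune_inst 0x400000012000000000000001c0280000002004b00001000000000065c0800050620402008100012800000000060024c0000401800000a00000000000000900242000240a10c860009802003180c00000000000000000000000000041000000000000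
set_option linter.all false
open scoped Cfsg.Agent.FastGrp

-- part: H520/CcpBasic
section
/-!
# Automorphisms `α` with `G = C_G(α) · {g⁻¹ α(g)}` (helper520)

* `CCP α` : every element of `G` is a fixed point times an element `g⁻¹ α(g)`;
* `CCP.uniq`, `CCP.eq_one_of_fix` : a nontrivial element `g⁻¹ α(g)` is not conjugate to a fixed point;
* `ccp_iff` : this characterises `CCP`; `CCP.res`, `CCP.quo` : inheritance;
* `CCP.conj_of_comm`, `CCP.iso` : if `x ∈ ⟨α⟩` has a conjugate `xᵍ` commuting with `α` then `xᵍ = x`;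
* `CCP.norm` : if `C_G(α) ≤ X`, `X` invariant, then `α` is fixed-point-free on `N_G(X)/X`.
-/

set_option autoImplicit false
set_option linter.unusedSectionVars false

namespace Cfsg.Agent.H520

open Subgroup

universe u

variable {G : Type u} [Group G]

/-- Every element is the product of a fixed point and an element `g⁻¹ α(g)`. -/
def CCP {G : Type*} [Group G] (α : MulAut G) : Prop := ∀ x : G, ∃ c g : G, α c = c ∧ x = c * (g⁻¹ * α g)

/-- the fixed points of an automorphism -/
def fixA {G : Type*} [Group G] (α : MulAut G) : Subgroup G where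
  carrier := {g | α g = g}
  mul_mem' := by
    intro a b ha hb
    have ha' : α a = a := ha
    have hb' : α b = b := hb
    show α (a * b) = a * b
    rw [map_mul, ha', hb']
  one_mem' := map_one α
  inv_mem' := by
    intro a ha
    have ha' : α a = a := ha
    show α a⁻¹ = a⁻¹
    rw [map_inv, ha']

theorem mem_fixA {G : Type*} [Group G] {α : MulAut G} {g : G} : g ∈ fixA α ↔ α g = g := Iff.rfl

/-- **Characterisation of `CCP`**, first half: no nontrivial `g⁻¹ α(g)` is conjugate to a fixed point. -/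
theorem ccp_of [Finite G] {α : MulAut G}
    (h : ∀ g k : G, α (k * (g⁻¹ * α g) * k⁻¹) = k * (g⁻¹ * α g) * k⁻¹ → α g = g) : CCP α := by
  classical
  -- the map from `C × G/C` to `G`
  let C := fixA α
  let s : Setoid G := QuotientGroup.rightRel C
  have hwd : ∀ a b : G, s.r a b → a⁻¹ * α a = b⁻¹ * α b := by
    intro a b hab
    have hab' : b * a⁻¹ ∈ C := QuotientGroup.rightRel_apply.mp hab
    rw [mem_fixA, map_mul, map_inv] at hab'
    have h1 : α b = b * a⁻¹ * α a := by
      rw [← hab']; group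
    rw [h1]; group
  let φ : Quotient s → G := Quotient.lift (fun a => a⁻¹ * α a) hwd
  let m : C × Quotient s → G := fun z => z.1.1 * φ z.2
  have hinj : Function.Injective m := by
    rintro ⟨c, a⟩ ⟨c', a'⟩ e
    induction a using Quotient.inductionOn with
    | _ a =>
    induction a' using Quotient.inductionOn with
    | _ b =>
    have e' : c.1 * (a⁻¹ * α a) = c'.1 * (b⁻¹ * α b) := e
    have hc : α c.1 = c.1 := c.2
    have hc' : α c'.1 = c'.1 := c'.2
    have h1 : α (b * a⁻¹) = b * a⁻¹ := by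
      apply h (b * a⁻¹) a⁻¹
      have h2 : a⁻¹ * ((b * a⁻¹)⁻¹ * α (b * a⁻¹)) * a⁻¹⁻¹ = c'.1⁻¹ * c.1 := by
        have h3 : b⁻¹ * α b = c'.1⁻¹ * c.1 * (a⁻¹ * α a) := by
          rw [mul_assoc, e', inv_mul_cancel_left]
        calc a⁻¹ * ((b * a⁻¹)⁻¹ * α (b * a⁻¹)) * a⁻¹⁻¹ = (b⁻¹ * α b) * (a⁻¹ * α a)⁻¹ := by
              rw [map_mul, map_inv]; group
          _ = c'.1⁻¹ * c.1 := by rw [h3]; group
      rw [h2, map_mul, map_inv, hc, hc']
    have h2 : s.r a b := by
      show QuotientGroup.rightRel C a b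
      rw [QuotientGroup.rightRel_apply]
      exact h1
    have h3 : a⁻¹ * α a = b⁻¹ * α b := hwd a b h2
    rw [h3] at e'
    have h4 : c = c' := Subtype.ext (mul_right_cancel e')
    have h5 : (Quotient.mk s a : Quotient s) = Quotient.mk s b := Quotient.sound h2
    rw [h4]
    exact Prod.ext rfl h5
  have hcard : Nat.card (C × Quotient s) = Nat.card G := by
    rw [Nat.card_prod, ← C.card_mul_index]
    congr 1
    rw [Subgroup.index]
    exact Nat.card_congr (QuotientGroup.quotientRightRelEquivQuotientLeftRel C)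
  have hbij : Function.Bijective m := (Nat.bijective_iff_injective_and_card m).mpr ⟨hinj, hcard⟩
  intro x
  obtain ⟨⟨c, a⟩, rfl⟩ := hbij.2 x
  induction a using Quotient.inductionOn with
  | _ a => exact ⟨c.1, a, c.2, rfl⟩

/-- uniqueness -/
theorem CCP.uniq [Finite G] {α : MulAut G} (h : CCP α) {c c' g g' : G} (hc : α c = c) (hc' : α c' = c')
    (e : c * (g⁻¹ * α g) = c' * (g'⁻¹ * α g')) : c = c' := by
  classical
  let C := fixA α
  let D : Set G := Set.range fun g : G => g⁻¹ * α g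
  have hcard : Nat.card D ≤ C.index := by
    let r : Setoid G := QuotientGroup.rightRel C
    have hwd : ∀ a b : G, r.r a b → a⁻¹ * α a = b⁻¹ * α b := by
      intro a b hab
      have hab' : b * a⁻¹ ∈ C := QuotientGroup.rightRel_apply.mp hab
      rw [mem_fixA, map_mul, map_inv] at hab'
      have h1 : α b = b * a⁻¹ * α a := by
        rw [← hab']; group
      rw [h1]; group
    let φ : Quotient r → D :=
      Quotient.lift (fun a => (⟨a⁻¹ * α a, ⟨a, rfl⟩⟩ : D))
        (fun a b hab => Subtype.ext (hwd a b hab))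
    have hφ : Function.Surjective φ := by
      rintro ⟨_, ⟨g, rfl⟩⟩
      exact ⟨Quotient.mk r g, rfl⟩
    have h1 : Nat.card D ≤ Nat.card (Quotient r) := Nat.card_le_card_of_surjective φ hφ
    have h2 : Nat.card (Quotient r) = C.index := by
      rw [Subgroup.index]
      exact Nat.card_congr (QuotientGroup.quotientRightRelEquivQuotientLeftRel C)
    exact h1.trans h2.le
  let m : C × D → G := fun z => z.1.1 * z.2.1
  have hm : Function.Surjective m := by
    intro x
    obtain ⟨c, g, hc, hx⟩ := h x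
    exact ⟨(⟨c, hc⟩, ⟨g⁻¹ * α g, ⟨g, rfl⟩⟩), hx.symm⟩
  have hle : Nat.card (C × D) ≤ Nat.card G := by
    rw [Nat.card_prod, ← C.card_mul_index]
    exact Nat.mul_le_mul_left _ hcard
  have heq : Nat.card (C × D) = Nat.card G :=
    le_antisymm hle (Nat.card_le_card_of_surjective m hm)
  have hbij : Function.Bijective m := (Nat.bijective_iff_surjective_and_card m).mpr ⟨hm, heq⟩
  have := hbij.1 (a₁ := (⟨c, hc⟩, ⟨g⁻¹ * α g, ⟨g, rfl⟩⟩))
    (a₂ := (⟨c', hc'⟩, ⟨g'⁻¹ * α g', ⟨g', rfl⟩⟩)) e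
  exact congrArg (fun z : C × D => z.1.1) this

/-- **(F1)** A nontrivial element `g⁻¹ α(g)` is not conjugate to a fixed point. -/
theorem CCP.eq_of_fix [Finite G] {α : MulAut G} (h : CCP α) {g k : G}
    (hf : α (k * (g⁻¹ * α g) * k⁻¹) = k * (g⁻¹ * α g) * k⁻¹) : α g = g := by
  have h1 : k * (g⁻¹ * α g) * k⁻¹ * ((k⁻¹)⁻¹ * α k⁻¹) = 1 * ((g * k⁻¹)⁻¹ * α (g * k⁻¹)) := by
    rw [map_mul]; group
  have h2 := h.uniq hf (map_one α) h1
  have h3 : g⁻¹ * α g = 1 := by
    calc g⁻¹ * α g = k⁻¹ * (k * (g⁻¹ * α g) * k⁻¹) * k := by group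
      _ = 1 := by rw [h2]; group
  exact (inv_mul_eq_one.mp h3).symm

/-- **(F1)** the form with an element conjugate to a fixed point -/
theorem CCP.not_conj [Finite G] {α : MulAut G} (h : CCP α) {g k c : G} (hc : α c = c)
    (e : k * (g⁻¹ * α g) * k⁻¹ = c) : c = 1 := by
  have h1 : α g = g := h.eq_of_fix (k := k) (by rw [e, hc])
  rw [← e, h1]
  group

/-- `CCP` for invariant subgroups -/
theorem CCP.res [Finite G] {α : MulAut G} (h : CCP α) (M : Subgroup G) (hM : ∀ m ∈ M, α m ∈ M) :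
    CCP (resA α M hM) := by
  refine ccp_of fun g k hf => ?_
  apply Subtype.ext
  have h1 := congrArg (fun z : ↥M => (z : G)) hf
  exact h.eq_of_fix (g := (g : G)) (k := (k : G)) h1

/-- `CCP` for quotients -/
theorem CCP.quo [Finite G] {α : MulAut G} (h : CCP α) (N : Subgroup G) [N.Normal] (hN : ∀ m ∈ N, α m ∈ N) :
    CCP (quoA α N hN) := by
  intro x
  obtain ⟨x, rfl⟩ := QuotientGroup.mk_surjective x
  obtain ⟨c, g, hc, hx⟩ := h x
  refine ⟨QuotientGroup.mk c, QuotientGroup.mk g, ?_, ?_⟩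
  · rw [quoA_mk, hc]
  · rw [quoA_mk, hx]
    rfl

/-- The fixed points of a quotient are the images of the fixed points. -/
theorem CCP.fix_quo [Finite G] {α : MulAut G} (h : CCP α) (N : Subgroup G) [N.Normal] (hN : ∀ m ∈ N, α m ∈ N)
    {x : G} (hx : x⁻¹ * α x ∈ N) : ∃ c : G, α c = c ∧ c⁻¹ * x ∈ N := by
  obtain ⟨c, g, hc, e⟩ := h x
  refine ⟨c, hc, ?_⟩
  have h1 : quoA α N hN (QuotientGroup.mk x) = QuotientGroup.mk x := by
    rw [quoA_mk]
    exact (QuotientGroup.eq.2 hx).symm
  have h2 : quoA α N hN (QuotientGroup.mk c) = QuotientGroup.mk c := by rw [quoA_mk, hc]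
  have h3 : (QuotientGroup.mk g : G ⧸ N)⁻¹ * quoA α N hN (QuotientGroup.mk g) =
      (QuotientGroup.mk c)⁻¹ * QuotientGroup.mk x := by
    rw [quoA_mk, e]
    simp
  have h4 : quoA α N hN (QuotientGroup.mk g) = QuotientGroup.mk g := by
    apply (h.quo N hN).eq_of_fix (k := 1)
    rw [one_mul, inv_one, mul_one, h3, map_mul, map_inv, h1, h2]
  rw [h4, inv_mul_cancel] at h3
  rw [← QuotientGroup.eq]
  exact inv_mul_eq_one.1 h3.symm

/-- `CCP` and isomorphisms -/
theorem CCP.congr {H : Type*} [Group H] {α : MulAut G} (h : CCP α) (e : G ≃* H) : CCP (MulAut.congr e α) := by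
  intro x
  obtain ⟨c, g, hc, hx⟩ := h (e.symm x)
  have h1 : ∀ y : G, MulAut.congr e α (e y) = e (α y) := by
    intro y
    show e (α (e.symm (e y))) = _
    rw [e.symm_apply_apply]
  refine ⟨e c, e g, ?_, ?_⟩
  · rw [h1, hc]
  · rw [h1, ← map_inv, ← map_mul, ← map_mul, ← hx, e.apply_symm_apply]

/-- The conjugates `αᵍ`. -/
theorem conj_mul_conj (α : MulAut G) (g : G) :
    MulAut.conj g * α * (MulAut.conj g)⁻¹ = MulAut.conj (g * (α g)⁻¹) * α := by
  ext x
  rw [← map_inv MulAut.conj g, MulAut.mul_apply, MulAut.mul_apply, MulAut.mul_apply, MulAut.conj_apply,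
    MulAut.conj_apply, MulAut.conj_apply, map_mul, map_mul, inv_inv, map_inv]
  group

/-- conjugation is injective -/
theorem conj_inj (hz : center G = ⊥) {a b : G} (hab : MulAut.conj a = MulAut.conj b) : a = b := by
  have h1 : b⁻¹ * a ∈ center G := by
    rw [mem_center_iff]
    intro x
    have h2 : a * x * a⁻¹ = b * x * b⁻¹ := DFunLike.congr_fun hab x
    calc x * (b⁻¹ * a) = b⁻¹ * (b * x * b⁻¹) * a := by group
      _ = b⁻¹ * (a * x * a⁻¹) * a := by rw [h2]
      _ = b⁻¹ * a * x := by group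
  rw [hz, mem_bot, inv_mul_eq_one] at h1
  exact h1.symm

theorem aut_conj (s : MulAut G) (u : G) : s * MulAut.conj u * s⁻¹ = MulAut.conj (s u) := by
  ext x
  rw [MulAut.mul_apply, MulAut.mul_apply, MulAut.conj_apply, MulAut.conj_apply, map_mul, map_mul, map_inv,
    MulAut.apply_inv_self]

/-- An automorphism commuting with the inner automorphism of `u` fixes `u`. -/
theorem fix_of_comm (hz : center G = ⊥) {s : MulAut G} {u : G} (h : Commute s (MulAut.conj u)) : s u = u := by
  apply conj_inj hz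
  rw [← aut_conj, h.eq, mul_inv_cancel_right]

/-- **(F2)** A set `S` of automorphisms commuting with `α` and `αᵍ`: then `αᵍ = αᵐ` with `m ∈ C_G(S)`. -/
theorem CCP.conj_of_comm [Finite G] (hz : center G = ⊥) {α : MulAut G} (h : CCP α) (S : Set (MulAut G))
    (h1 : ∀ s ∈ S, Commute s α) {g : G} (h2 : ∀ s ∈ S, Commute s (MulAut.conj g * α * (MulAut.conj g)⁻¹)) :
    ∃ m : G, (∀ s ∈ S, (s : MulAut G) m = m) ∧
      MulAut.conj g * α * (MulAut.conj g)⁻¹ = MulAut.conj m * α * (MulAut.conj m)⁻¹ := by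
  set u : G := g * (α g)⁻¹ with hu
  -- the common fixed points
  let M : Subgroup G := ⨅ s ∈ S, fixA s
  have hMmem : ∀ x : G, x ∈ M ↔ ∀ s ∈ S, s x = x := by
    intro x
    simp only [M, mem_iInf, mem_fixA]
  have hMi : ∀ m ∈ M, α m ∈ M := by
    intro m hm
    rw [hMmem] at hm ⊢
    intro s hs
    calc s (α m) = (s * α) m := rfl
      _ = (α * s) m := by rw [(h1 s hs).eq]
      _ = α (s m) := rfl
      _ = α m := by rw [hm s hs]
  have huM : u ∈ M := by
    rw [hMmem]
    intro s hs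
    apply fix_of_comm hz
    have h3 := h2 s hs
    rw [conj_mul_conj] at h3
    have h4 : MulAut.conj u = (MulAut.conj u * α) * α⁻¹ := by group
    rw [h4]
    exact h3.mul_right (h1 s hs).inv_right
  -- `u = c m⁻¹ α(m)`
  obtain ⟨c, m, hc, e⟩ := (h.res M hMi) ⟨u, huM⟩
  have hc' : α c.1 = c.1 := congrArg Subtype.val hc
  have e' : u = c.1 * (m.1⁻¹ * α m.1) := congrArg Subtype.val e
  have h3 : (1 : G) * ((g⁻¹)⁻¹ * α g⁻¹) = c.1 * (m.1⁻¹ * α m.1) := by
    rw [← e', hu, map_inv]; group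
  have h4 : (1 : G) = c.1 := h.uniq (map_one α) hc' h3
  rw [← h4, one_mul] at e'
  refine ⟨m.1⁻¹, ?_, ?_⟩
  · intro s hs
    rw [map_inv, (hMmem m.1).1 m.2 s hs]
  · rw [conj_mul_conj, conj_mul_conj, ← hu, e', map_inv, inv_inv]

theorem conj_pow_aut (a b : MulAut G) (j : ℤ) : (a * b * a⁻¹) ^ j = a * b ^ j * a⁻¹ := by
  rw [conj_zpow]

/-- **(Y)** If `x ∈ ⟨α⟩` has a conjugate `xᵍ` commuting with `α` then `xᵍ = x`. -/
theorem CCP.iso [Finite G] (hz : center G = ⊥) {α : MulAut G} (h : CCP α) {x : MulAut G} (hx : x ∈ zpowers α)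
    {g : G} (hc : Commute (MulAut.conj g * x * (MulAut.conj g)⁻¹) α) :
    MulAut.conj g * x * (MulAut.conj g)⁻¹ = x := by
  obtain ⟨j, rfl⟩ := hx
  set y : MulAut G := MulAut.conj g * α ^ j * (MulAut.conj g)⁻¹ with hy
  have hy' : y = (MulAut.conj g * α * (MulAut.conj g)⁻¹) ^ j := by rw [conj_pow_aut]
  obtain ⟨m, hm, e⟩ := h.conj_of_comm hz {y} (by
    intro s hs
    rw [Set.mem_singleton_iff] at hs
    rw [hs]
    exact hc) (g := g) (by
    intro s hs
    rw [Set.mem_singleton_iff] at hs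
    rw [hs, hy']
    exact (Commute.refl _).zpow_left j)
  have hm' : y m = m := hm y rfl
  have h1 : y = MulAut.conj m * α ^ j * (MulAut.conj m)⁻¹ := by rw [hy', e, conj_pow_aut]
  have h2 : MulAut.conj m * y = y * MulAut.conj m := by
    have h3 := aut_conj y m
    rw [hm', mul_inv_eq_iff_eq_mul] at h3
    exact h3.symm
  have h3 : MulAut.conj m * y = MulAut.conj m * α ^ j := by
    rw [h2]
    nth_rw 1 [h1]
    group
  exact mul_left_cancel h3

/-- **(Y)** for inner automorphisms in `⟨α⟩`. -/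
theorem CCP.iso_inn [Finite G] (hz : center G = ⊥) {α : MulAut G} (h : CCP α) {y : G}
    (hy : MulAut.conj y ∈ zpowers α) {g : G} (hf : α (g * y * g⁻¹) = g * y * g⁻¹) : g * y * g⁻¹ = y := by
  apply conj_inj hz
  have h1 : MulAut.conj (g * y * g⁻¹) = MulAut.conj g * MulAut.conj y * (MulAut.conj g)⁻¹ := by
    rw [map_mul, map_mul, map_inv]
  rw [h1]
  apply h.iso hz hy
  rw [← h1]
  show MulAut.conj (g * y * g⁻¹) * α = α * MulAut.conj (g * y * g⁻¹)
  have h2 := aut_conj α (g * y * g⁻¹)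
  rw [hf, mul_inv_eq_iff_eq_mul] at h2
  exact h2.symm

/-- **(Y)** An element `y` with `conj y ∈ ⟨α⟩` is not conjugate to a different power of `y`. -/
theorem CCP.eq_zpow [Finite G] (hz : center G = ⊥) {α : MulAut G} (h : CCP α) {y : G}
    (hy : MulAut.conj y ∈ zpowers α) {g : G} {j : ℤ} (hg : g * y * g⁻¹ = y ^ j) : y ^ j = y := by
  rw [← hg]
  apply h.iso_inn hz hy
  rw [hg, map_zpow]
  congr 1
  apply fix_of_comm hz
  obtain ⟨k, hk⟩ := hy
  rw [← hk]
  exact (Commute.refl α).zpow_right k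

/-- **(Y)** An automorphism `x ∈ ⟨α⟩` is not conjugate under `G` to a different power of `x`. -/
theorem CCP.eq_zpow_aut [Finite G] (hz : center G = ⊥) {α : MulAut G} (h : CCP α) {x : MulAut G}
    (hx : x ∈ zpowers α) {g : G} {j : ℤ} (hg : MulAut.conj g * x * (MulAut.conj g)⁻¹ = x ^ j) : x ^ j = x := by
  rw [← hg]
  apply h.iso hz hx
  rw [hg]
  obtain ⟨k, rfl⟩ := hx
  exact (((Commute.refl α).zpow_left k).zpow_left j)

/-- **(F5)** `α` is fixed-point-free on `N_G(X)/X` for the invariant subgroups `X ≥ C_G(α)`. -/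
theorem CCP.norm [Finite G] {α : MulAut G} (h : CCP α) {X : Subgroup G} (hX : ∀ x ∈ X, α x ∈ X)
    (hC : fixA α ≤ X) {n : G} (hn : n⁻¹ * α n ∈ X) : n ∈ X := by
  obtain ⟨c, x, hc, e⟩ := (h.res X hX) ⟨_, hn⟩
  have hc' : α c.1 = c.1 := congrArg Subtype.val hc
  have e' : n⁻¹ * α n = c.1 * (x.1⁻¹ * α x.1) := congrArg Subtype.val e
  have h1 : (1 : G) = c.1 := h.uniq (g := n) (g' := x.1) (map_one α) hc' (by rw [one_mul, e'])
  rw [← h1, one_mul] at e'
  have h2 : α (n * x.1⁻¹) = n * x.1⁻¹ := by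
    rw [map_mul, map_inv]
    calc α n * (α x.1)⁻¹ = n * (n⁻¹ * α n) * (α x.1)⁻¹ := by group
      _ = n * x.1⁻¹ := by rw [e']; group
  have h3 : n * x.1⁻¹ ∈ X := hC h2
  have h4 := mul_mem h3 x.2
  rwa [inv_mul_cancel_right] at h4

/-- **(F5)** There is no invariant homomorphism from an invariant `N`, `C_G(α) ≤ X ⊴ N`, to `{±1}` trivial on `X`. -/
theorem CCP.sign [Finite G] {α : MulAut G} (h : CCP α) {X N : Subgroup G} (hX : ∀ x ∈ X, α x ∈ X)
    (hN : ∀ x ∈ N, α x ∈ N) (hC : fixA α ≤ X) {A : Type*} [CommGroup A] (s : ↥N →* A)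
    (hs : ∀ (n : ↥N), s ⟨α n.1, hN _ n.2⟩ = s n) (hker : ∀ x (hx : x ∈ N), x ∈ X → s ⟨x, hx⟩ = 1)
    (hnorm : ∀ n ∈ N, ∀ x ∈ X, n * x * n⁻¹ ∈ X) : ∀ n : ↥N, s n = 1 := by
  classical
  -- the map `n X ↦ n⁻¹ α(n) X` is bijective on `N/X`
  let Y : Subgroup ↥N := X.subgroupOf N
  have hYn : Y.Normal := by
    constructor
    intro y hy n
    rw [mem_subgroupOf] at hy ⊢
    exact hnorm n n.2 _ hy
  let β : MulAut ↥N := resA α N hN
  have hYβ : ∀ y ∈ Y, β y ∈ Y := by
    intro y hy
    rw [mem_subgroupOf] at hy ⊢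
    exact hX _ hy
  let γ : MulAut (↥N ⧸ Y) := quoA β Y hYβ
  have hinj : Function.Injective fun q : ↥N ⧸ Y => q⁻¹ * γ q := by
    intro a b hab
    obtain ⟨a, rfl⟩ := QuotientGroup.mk_surjective a
    obtain ⟨b, rfl⟩ := QuotientGroup.mk_surjective b
    have h1 : γ (QuotientGroup.mk (b * a⁻¹)) = QuotientGroup.mk (b * a⁻¹) := by
      have h2 : (QuotientGroup.mk a : ↥N ⧸ Y)⁻¹ * γ (QuotientGroup.mk a) =
        (QuotientGroup.mk b)⁻¹ * γ (QuotientGroup.mk b) := hab
      have h3 : (QuotientGroup.mk (b * a⁻¹) : ↥N ⧸ Y) = QuotientGroup.mk b * (QuotientGroup.mk a)⁻¹ := rfl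
      rw [h3, map_mul, map_inv]
      calc γ (QuotientGroup.mk b) * (γ (QuotientGroup.mk a))⁻¹
          = QuotientGroup.mk b * ((QuotientGroup.mk b)⁻¹ * γ (QuotientGroup.mk b)) * (γ (QuotientGroup.mk a))⁻¹ := by
            group
        _ = QuotientGroup.mk b * (QuotientGroup.mk a)⁻¹ := by rw [← h2]; group
    have h2 : (b * a⁻¹)⁻¹ * β (b * a⁻¹) ∈ Y := by
      rw [quoA_mk] at h1
      exact QuotientGroup.eq.1 h1.symm
    rw [mem_subgroupOf] at h2
    have h3 : ((b * a⁻¹ : ↥N) : G) ∈ X := h.norm hX hC h2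
    have h4 : b * a⁻¹ ∈ Y := mem_subgroupOf.2 h3
    rw [eq_comm, QuotientGroup.eq]
    have h5 := hYn.conj_mem _ (inv_mem h4) b⁻¹
    have h6 : b⁻¹ * (b * a⁻¹)⁻¹ * b⁻¹⁻¹ = b⁻¹ * a := by group
    rw [h6] at h5
    exact h5
  have hsurj := Finite.injective_iff_surjective.1 hinj
  intro n
  obtain ⟨q, hq⟩ := hsurj (QuotientGroup.mk n)
  obtain ⟨m, rfl⟩ := QuotientGroup.mk_surjective q
  have h1 : (m⁻¹ * β m)⁻¹ * n ∈ Y := QuotientGroup.eq.1 hq
  have h2 : s ((m⁻¹ * β m)⁻¹ * n) = 1 := hker _ _ (mem_subgroupOf.1 h1)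
  have h3 : s (β m) = s m := hs m
  rw [map_mul, map_inv, map_mul, map_inv, h3, inv_mul_cancel, inv_one, one_mul] at h2
  exact h2

end Cfsg.Agent.H520
end

-- part: H520/CcpCfg
section
/-!
# Minimal configurations for S4114 (helper520)

* `ZStarT` : the `Z*_p` theorem (S1938) as a hypothesis;
* `Cfg α` : `G` is a nonabelian simple group, `α ≠ 1` satisfies `CCP`, and `[M, α]` is solvable for the proper invariant
  subgroups `M`;
* `Cfg.pprime` : `[C_G(z), x]` is a `p'`-group for `α = z x`, `x` a `p`-element, `x, z ∈ ⟨α⟩`;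
* `Cfg.not_primepow` : the order of `α` is not a power of a prime `p ∣ |G|`;
* `EL r α` : `α` normalises no nontrivial `r`-subgroup; `EL.not_dvd_fix`, `EL.rgen`, `Cfg.two_primes`.
-/

set_option autoImplicit false
set_option linter.unusedSectionVars false

namespace Cfsg.Agent.H520

open Subgroup Cfsg Cfsg.Agent.Schreier.SylowCrit Cfsg.Agent.Schreier.BNSch

universe u

/-- The `Z*` theorem for all primes (S1938). -/
def ZStarT : Prop := ∀ (p : ℕ) [Fact p.Prime] (H : Type) [Group H] [Finite H] (x : H),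
  (∃ k : ℕ, orderOf x = p ^ k) → IsIsolated x → InZStar p x

theorem isIsolated_congr {H K : Type*} [Group H] [Group K] (e : H ≃* K) {x : H} (h : IsIsolated x) :
    IsIsolated (e x) := by
  intro g hc
  have h1 : Commute x (e.symm g * x * (e.symm g)⁻¹) := by
    apply e.injective
    have h2 : e (e.symm g * x * (e.symm g)⁻¹) = g * e x * g⁻¹ := by
      rw [map_mul, map_mul, map_inv, e.apply_symm_apply]
    rw [map_mul e x _, map_mul e _ x, h2]
    exact hc
  have h2 := congrArg e (h _ h1)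
  rw [map_mul, map_mul, map_inv, e.apply_symm_apply] at h2
  exact h2

theorem inZStar_congr {H K : Type*} [Group H] [Group K] (e : H ≃* K) {p : ℕ} {x : H} (h : InZStar p x) :
    InZStar p (e x) := by
  intro g
  rw [← Agent.Lib.Cores.map_equiv_pPrimeCore e p]
  refine ⟨_, h (e.symm g), ?_⟩
  show e (e.symm g * x * (e.symm g)⁻¹ * x⁻¹) = _
  rw [map_mul, map_mul, map_mul, map_inv, map_inv, e.apply_symm_apply]

/-- a copy of a finite group in `Type` -/
theorem exists_type0 (H : Type u) [Group H] [Finite H] : ∃ (K : Type) (_ : Group K) (_ : Finite K), Nonempty (H ≃* K) := by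
  have : Small.{0} H := Countable.toSmall H
  exact ⟨Shrink.{0} H, inferInstance, Finite.of_equiv H (equivShrink H), ⟨Shrink.mulEquiv.symm⟩⟩

theorem ZStarT.any (h : ZStarT) (p : ℕ) [Fact p.Prime] (H : Type u) [Group H] [Finite H] (x : H)
    (hx : ∃ k : ℕ, orderOf x = p ^ k) (hi : IsIsolated x) : InZStar p x := by
  obtain ⟨K, iK, iF, ⟨e⟩⟩ := exists_type0 H
  have h1 : orderOf (e x) = orderOf x := orderOf_injective e.toMonoidHom e.injective x
  have h2 := h p K (e x) (by rw [h1]; exact hx) (isIsolated_congr e hi)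
  have h3 := inZStar_congr e.symm h2
  rwa [e.symm_apply_apply] at h3

variable {G : Type u} [Group G]

/-- **The minimal configurations for S4114.** -/
structure Cfg {G : Type*} [Group G] (α : MulAut G) : Prop where
  zst : ZStarT
  ccp : CCP α
  ne : α ≠ 1
  sim : IsSimpleGroup G
  na : ¬ ∀ a b : G, a * b = b * a
  min : ∀ M : Subgroup G, M ≠ ⊤ → (∀ m ∈ M, α m ∈ M) → Group.IsSolvable (cM α M)

/-- The row of a group. -/
def Row (G : Type*) [Group G] : Prop := ∀ α : MulAut G, ¬ Cfg α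

theorem congr_ap {H : Type*} [Group H] (e : G ≃* H) (α : MulAut G) (x : G) : MulAut.congr e α (e x) = e (α x) := by
  show e (α (e.symm (e x))) = e (α x)
  rw [e.symm_apply_apply]

theorem Cfg.congr {H : Type*} [Group H] (e : G ≃* H) {α : MulAut G} (h : Cfg α) : Cfg (MulAut.congr e α) := by
  refine ⟨h.zst, h.ccp.congr e, ?_, ?_, ?_, ?_⟩
  · intro h1
    apply h.ne
    apply (MulAut.congr e).injective
    rw [h1, map_one]
  · have := h.sim
    exact e.symm.isSimpleGroup
  · intro h1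
    apply h.na
    intro a b
    apply e.injective
    rw [map_mul, map_mul]
    exact h1 _ _
  · intro M hM hinv
    have h1 : (cM α (M.comap e.toMonoidHom)).map e.toMonoidHom = cM (MulAut.congr e α) M := by
      unfold cM
      rw [MonoidHom.map_closure]
      congr 1
      ext y
      constructor
      · rintro ⟨_, ⟨m, hm, rfl⟩, rfl⟩
        refine ⟨e m, hm, ?_⟩
        show e (m⁻¹ * α m) = _
        rw [map_mul, map_inv, congr_ap]
      · rintro ⟨m, hm, rfl⟩
        refine ⟨_, ⟨e.symm m, ?_, rfl⟩, ?_⟩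
        · show e (e.symm m) ∈ M
          rw [e.apply_symm_apply]
          exact hm
        · show e ((e.symm m)⁻¹ * α (e.symm m)) = _
          rw [map_mul, map_inv, ← congr_ap, e.apply_symm_apply]
    have h2 := h.min (M.comap e.toMonoidHom) (fun h2 => hM (by
      rw [eq_top_iff]
      intro x _
      have h3 : e.symm x ∈ M.comap e.toMonoidHom := by rw [h2]; trivial
      have h4 : e (e.symm x) ∈ M := h3
      rwa [e.apply_symm_apply] at h4)) (fun m hm => by
        show e (α m) ∈ M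
        rw [← congr_ap]
        exact hinv _ hm)
    rw [← h1]
    exact Group.isSolvable_of_surjective (f := e.toMonoidHom.subgroupMap _) (e.toMonoidHom.subgroupMap_surjective _)

theorem Row.congr {H : Type*} [Group H] (e : G ≃* H) (h : Row H) : Row G := fun _ hα => h _ (hα.congr e)

namespace Cfg

variable {α : MulAut G}

theorem center_bot (h : Cfg α) : center G = ⊥ := by
  have := h.sim
  rcases Subgroup.Normal.eq_bot_or_eq_top (inferInstance : (center G).Normal) with h1 | h1
  · exact h1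
  · exfalso
    apply h.na
    intro a b
    have h2 : b ∈ center G := by rw [h1]; trivial
    exact mem_center_iff.1 h2 a

/-- (Y) -/
theorem iso [Finite G] (h : Cfg α) {x : MulAut G} (hx : x ∈ zpowers α) {g : G}
    (hc : Commute (MulAut.conj g * x * (MulAut.conj g)⁻¹) α) : MulAut.conj g * x * (MulAut.conj g)⁻¹ = x :=
  h.ccp.iso h.center_bot hx hc

/-- (Y) `y` is not conjugate to a different power. -/
theorem eq_zpow [Finite G] (h : Cfg α) {y : G} (hy : MulAut.conj y ∈ zpowers α) {g : G} {j : ℤ}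
    (hg : g * y * g⁻¹ = y ^ j) : y ^ j = y := h.ccp.eq_zpow h.center_bot hy hg

theorem eq_pow [Finite G] (h : Cfg α) {y : G} (hy : MulAut.conj y ∈ zpowers α) {g : G} {j : ℕ}
    (hg : g * y * g⁻¹ = y ^ j) : y ^ j = y := by
  have h1 := h.eq_zpow hy (g := g) (j := j) (by rw [zpow_natCast]; exact hg)
  rwa [zpow_natCast] at h1

/-- (Y) an element `y ∈ ⟨α⟩` conjugate to its inverse has order at most two -/
theorem sq_eq_one_of_real [Finite G] (h : Cfg α) {y : G} (hy : MulAut.conj y ∈ zpowers α) {g : G}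
    (hg : g * y * g⁻¹ = y⁻¹) : y ^ 2 = 1 := by
  have h1 := h.eq_zpow hy (g := g) (j := -1) (by rw [zpow_neg_one]; exact hg)
  rw [zpow_neg_one] at h1
  rw [pow_two]
  nth_rw 1 [← h1]
  rw [inv_mul_cancel]

theorem comm_zpowers {x y : MulAut G} (hx : x ∈ zpowers α) (hy : y ∈ zpowers α) : Commute x y := by
  obtain ⟨i, rfl⟩ := hx
  obtain ⟨j, rfl⟩ := hy
  exact ((Commute.refl α).zpow_left i).zpow_right j

/-- an automorphism commuting with `x` leaves the fixed points of `x` invariant -/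
theorem fixA_inv {x y : MulAut G} (hc : Commute x y) : ∀ m ∈ fixA x, y m ∈ fixA x := by
  intro m hm
  rw [mem_fixA] at hm ⊢
  calc x (y m) = (x * y) m := rfl
    _ = (y * x) m := by rw [hc.eq]
    _ = y (x m) := rfl
    _ = y m := by rw [hm]

theorem fixA_ne_top {x : MulAut G} (hx : x ≠ 1) : fixA x ≠ ⊤ := by
  intro h
  apply hx
  ext m
  have : m ∈ fixA x := by rw [h]; trivial
  exact this

/-- `[C_G(x), α]` is solvable for `1 ≠ x ∈ ⟨α⟩`. -/
theorem solv_fix (h : Cfg α) {x : MulAut G} (hx : x ∈ zpowers α) (hx1 : x ≠ 1) :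
    Group.IsSolvable (cM α (fixA x)) :=
  h.min _ (fixA_ne_top hx1) (fixA_inv (comm_zpowers hx (mem_zpowers α)))

/-- a perfect invariant subgroup of a proper invariant subgroup whose solvable normal subgroups are central is
centralised by `α`. -/
theorem centralizes [Finite G] (h : Cfg α) {M E : Subgroup G} (hM : M ≠ ⊤) (hMi : ∀ m ∈ M, α m ∈ M)
    (hEM : E ≤ M) (hEi : ∀ e ∈ E, α e ∈ E) (hperf : commutator ↥E = ⊤)
    (hsol : ∀ N : Subgroup ↥E, N.Normal → Group.IsSolvable N → N ≤ center ↥E) : ∀ e ∈ E, α e = e := by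
  have h1 : Group.IsSolvable (cM α E) := by
    have h2 : cM α E ≤ cM α M := cM_mono α hEM
    have := h.min M hM hMi
    exact Group.isSolvable_of_isSolvable_injective (f := inclusion h2) (inclusion_injective h2)
  rw [solvable_cM_iff α E hEi] at h1
  have h2 := hsol _ (cG_normal _) h1
  -- the homomorphism `e ↦ e⁻¹ α(e)` to the centre
  let β := resA α E hEi
  let f : ↥E →* ↥E :=
    { toFun := fun e => e⁻¹ * β e
      map_one' := by simp
      map_mul' := by
        intro a b
        have h3 : a⁻¹ * β a ∈ center ↥E := h2 (mem_cG β a)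
        have h4 := mem_center_iff.1 h3 b⁻¹
        calc (a * b)⁻¹ * β (a * b) = b⁻¹ * (a⁻¹ * β a) * β b := by rw [map_mul]; group
          _ = (a⁻¹ * β a) * b⁻¹ * β b := by rw [h4]
          _ = (a⁻¹ * β a) * (b⁻¹ * β b) := by group }
  have hf : f.ker = ⊤ := by
    rw [eq_top_iff, ← hperf, commutator_def, commutator_le]
    intro a _ b _
    rw [MonoidHom.mem_ker, commutatorElement_def, map_mul, map_mul, map_mul, map_inv, map_inv]
    have h3 : f a ∈ center ↥E := h2 (mem_cG β a)
    have h4 := mem_center_iff.1 h3 (f b)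
    rw [← h4]
    group
  intro e he
  have h3 : (⟨e, he⟩ : ↥E) ∈ f.ker := by rw [hf]; trivial
  have h4 : (⟨e, he⟩ : ↥E)⁻¹ * β ⟨e, he⟩ = 1 := h3
  have h5 := congrArg Subtype.val (inv_mul_eq_one.1 h4)
  exact h5.symm

/-- an invariant subgroup of a proper invariant subgroup without nontrivial solvable normal subgroups is centralised -/
theorem centralizes' [Finite G] (h : Cfg α) {M E : Subgroup G} (hM : M ≠ ⊤) (hMi : ∀ m ∈ M, α m ∈ M)
    (hEM : E ≤ M) (hEi : ∀ e ∈ E, α e ∈ E)
    (hsol : ∀ N : Subgroup ↥E, N.Normal → Group.IsSolvable N → N = ⊥) : ∀ e ∈ E, α e = e := by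
  have h1 : Group.IsSolvable (cM α E) := by
    have h2 : cM α E ≤ cM α M := cM_mono α hEM
    have := h.min M hM hMi
    exact Group.isSolvable_of_isSolvable_injective (f := inclusion h2) (inclusion_injective h2)
  rw [solvable_cM_iff α E hEi] at h1
  have h2 := hsol _ (cG_normal _) h1
  intro e he
  have h3 := mem_cG (resA α E hEi) ⟨e, he⟩
  rw [h2, mem_bot] at h3
  have h4 := congrArg Subtype.val (inv_mul_eq_one.1 h3)
  exact h4.symm

end Cfg

/-! ### The group `C · ⟨α⟩` -/

/-- the subgroup `conj(M) ⟨α⟩` of the automorphism group -/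
def semi [Finite G] (α : MulAut G) (M : Subgroup G) (hM : ∀ m ∈ M, α m ∈ M) : Subgroup (MulAut G) where
  carrier := {φ | ∃ m ∈ M, ∃ i : ℤ, φ = MulAut.conj m * α ^ i}
  one_mem' := ⟨1, one_mem M, 0, by simp⟩
  mul_mem' := by
    rintro _ _ ⟨m, hm, i, rfl⟩ ⟨n, hn, j, rfl⟩
    have h1 : ∀ i : ℤ, ∀ n ∈ M, (α ^ i : MulAut G) n ∈ M := by
      intro i n hn
      have h2 : zpowers α ≤ stab M := by
        rw [zpowers_le]
        exact mem_stab_iff.2 hM
      exact mem_stab_iff.1 (h2 ⟨i, rfl⟩) n hn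
    refine ⟨m * (α ^ i : MulAut G) n, mul_mem hm (h1 i n hn), i + j, ?_⟩
    rw [map_mul, ← aut_conj, zpow_add]
    group
  inv_mem' := by
    rintro _ ⟨m, hm, i, rfl⟩
    have h1 : ∀ i : ℤ, ∀ n ∈ M, (α ^ i : MulAut G) n ∈ M := by
      intro i n hn
      have h2 : zpowers α ≤ stab M := by
        rw [zpowers_le]
        exact mem_stab_iff.2 hM
      exact mem_stab_iff.1 (h2 ⟨i, rfl⟩) n hn
    refine ⟨(α ^ (-i) : MulAut G) m⁻¹, h1 _ _ (inv_mem hm), -i, ?_⟩
    rw [← aut_conj, map_inv]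
    group

theorem conj_mem_semi [Finite G] {α : MulAut G} {M : Subgroup G} {hM : ∀ m ∈ M, α m ∈ M} {m : G} (hm : m ∈ M) :
    MulAut.conj m ∈ semi α M hM := ⟨m, hm, 0, by simp⟩

theorem zpowers_le_semi [Finite G] {α : MulAut G} {M : Subgroup G} {hM : ∀ m ∈ M, α m ∈ M} :
    zpowers α ≤ semi α M hM := by
  rintro _ ⟨i, rfl⟩
  exact ⟨1, one_mem M, i, by simp⟩

namespace Cfg

variable {α : MulAut G}

/-- **Isolation of the `p`-part** `x` of `α` in `C_G(z)⟨α⟩`, `α = z x`: `[C_G(z), x]` is a `p'`-group. -/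
theorem pprime [Finite G] (h : Cfg α) {p : ℕ} [hp : Fact p.Prime] {x z : MulAut G} (hx : x ∈ zpowers α)
    (hz : z ∈ zpowers α) (hα : α = z * x) (hxp : ∃ k : ℕ, orderOf x = p ^ k) :
    (Nat.card (cM x (fixA z))).Coprime p := by
  have hzα : Commute z α := comm_zpowers hz (mem_zpowers α)
  have hxα : Commute x α := comm_zpowers hx (mem_zpowers α)
  have hM : ∀ m ∈ fixA z, α m ∈ fixA z := fixA_inv hzα
  set H := semi α (fixA z) hM with hH
  have hxH : x ∈ H := zpowers_le_semi hx
  have hiso : IsIsolated (⟨x, hxH⟩ : ↥H) := by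
    rintro ⟨g, m, hm, i, rfl⟩ hc
    apply Subtype.ext
    have hc' : Commute x ((MulAut.conj m * α ^ i) * x * (MulAut.conj m * α ^ i)⁻¹) := congrArg Subtype.val hc
    show (MulAut.conj m * α ^ i) * x * (MulAut.conj m * α ^ i)⁻¹ = x
    have h1 : (MulAut.conj m * α ^ i) * x * (MulAut.conj m * α ^ i)⁻¹ = MulAut.conj m * x * (MulAut.conj m)⁻¹ := by
      have h2 : α ^ i * x = x * α ^ i := (hxα.zpow_right i).symm.eq
      calc (MulAut.conj m * α ^ i) * x * (MulAut.conj m * α ^ i)⁻¹
          = MulAut.conj m * (α ^ i * x) * (α ^ i)⁻¹ * (MulAut.conj m)⁻¹ := by group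
        _ = _ := by rw [h2]; group
    rw [h1] at hc' ⊢
    apply h.iso hx
    rw [hα]
    refine Commute.mul_right ?_ hc'.symm
    -- `z` commutes with the conjugate
    have h3 : z * MulAut.conj m = MulAut.conj m * z := by
      have h4 := aut_conj z m
      rw [mem_fixA.1 hm, mul_inv_eq_iff_eq_mul] at h4
      exact h4
    have h5 : z * x = x * z := (comm_zpowers hz hx).eq
    show MulAut.conj m * x * (MulAut.conj m)⁻¹ * z = z * (MulAut.conj m * x * (MulAut.conj m)⁻¹)
    calc MulAut.conj m * x * (MulAut.conj m)⁻¹ * z = MulAut.conj m * x * ((MulAut.conj m)⁻¹ * (z * MulAut.conj m)) *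
          (MulAut.conj m)⁻¹ := by group
      _ = MulAut.conj m * (x * z) * (MulAut.conj m)⁻¹ := by rw [h3]; group
      _ = (MulAut.conj m * z) * x * (MulAut.conj m)⁻¹ := by rw [← h5]; group
      _ = z * (MulAut.conj m * x * (MulAut.conj m)⁻¹) := by rw [← h3]; group
  have hord : ∃ k : ℕ, orderOf (⟨x, hxH⟩ : ↥H) = p ^ k := by
    obtain ⟨k, hk⟩ := hxp
    exact ⟨k, by rw [← hk]; exact (orderOf_injective H.subtype H.subtype_injective ⟨x, hxH⟩).symm⟩
  have hZ := h.zst.any p ↥H ⟨x, hxH⟩ hord hiso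
  -- `[C_G(z), x]` embeds in the `p'`-core
  have hle : (cM x (fixA z)).map (MulAut.conj : G →* MulAut G) ≤ (pPrimeCore p ↥H).map H.subtype := by
    rw [map_le_iff_le_comap, cM, closure_le]
    rintro _ ⟨m, hm, rfl⟩
    have h1 := hZ ⟨MulAut.conj m⁻¹, conj_mem_semi (inv_mem hm)⟩
    refine ⟨_, h1, ?_⟩
    show MulAut.conj m⁻¹ * x * (MulAut.conj m⁻¹)⁻¹ * x⁻¹ = MulAut.conj (m⁻¹ * x m)
    rw [← map_inv, inv_inv, map_mul, ← aut_conj]
    group
  have hcard : Nat.card ↥((cM x (fixA z)).map (MulAut.conj : G →* MulAut G)) = Nat.card ↥(cM x (fixA z)) :=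
    (Nat.card_congr ((cM x (fixA z)).equivMapOfInjective _ (fun a b hab => conj_inj h.center_bot hab)).toEquiv).symm
  have hcard2 : Nat.card ↥((pPrimeCore p ↥H).map H.subtype) = Nat.card ↥(pPrimeCore p ↥H) :=
    (Nat.card_congr ((pPrimeCore p ↥H).equivMapOfInjective _ H.subtype_injective).toEquiv).symm
  rw [← hcard]
  refine Nat.Coprime.coprime_dvd_left (card_dvd_of_le hle) ?_
  rw [hcard2]
  exact Agent.Lib.Cores.pPrimeCore_coprime p

/-- **(PP)** The order of `α` is not a power of a prime divisor of `|G|`. -/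
theorem not_primepow [Finite G] (h : Cfg α) {p : ℕ} [hp : Fact p.Prime] (hpG : p ∣ Nat.card G) (k : ℕ) :
    orderOf α ≠ p ^ k := by
  intro hk
  have h1 := h.pprime (p := p) (x := α) (z := 1) (mem_zpowers α) (one_mem _) (one_mul α).symm ⟨k, hk⟩
  have h2 : fixA (1 : MulAut G) = ⊤ := by
    rw [eq_top_iff]
    intro g _
    rfl
  rw [h2, cM_top] at h1
  have := h.sim
  rcases Subgroup.Normal.eq_bot_or_eq_top (cG_normal α) with h3 | h3
  · apply h.ne
    ext g
    have h4 := mem_cG α g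
    rw [h3, mem_bot] at h4
    exact (inv_mul_eq_one.1 h4).symm
  · rw [h3, card_top] at h1
    have h4 := Nat.dvd_gcd hpG (dvd_refl p)
    rw [h1] at h4
    exact hp.out.one_lt.ne' (Nat.dvd_one.1 h4)

end Cfg

/-! ### Elliptic automorphisms -/

/-- `α` normalises no nontrivial `r`-subgroup. -/
def EL {G : Type*} [Group G] (r : ℕ) (α : MulAut G) : Prop :=
  ∀ R : Subgroup G, IsPGroup r R → (∀ m ∈ R, α m ∈ R) → R = ⊥

/-- The elliptic row of a group. -/
def ElRow (r : ℕ) (G : Type*) [Group G] : Prop := ∀ α : MulAut G, Cfg α → ¬ EL r α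

theorem EL.congr {H : Type*} [Group H] (e : G ≃* H) {r : ℕ} {α : MulAut G} (h : EL r α) :
    EL r (MulAut.congr e α) := by
  intro R hR hi
  have h1 := h (R.comap e.toMonoidHom) (hR.comap_of_injective e.toMonoidHom e.injective) (by
    intro m hm
    show e (α m) ∈ R
    rw [← congr_ap]
    exact hi _ hm)
  rw [eq_bot_iff]
  intro x hx
  have h2 : e.symm x ∈ R.comap e.toMonoidHom := by
    show e (e.symm x) ∈ R
    rw [e.apply_symm_apply]
    exact hx
  rw [h1, mem_bot] at h2
  rw [mem_bot, ← e.apply_symm_apply x, h2, map_one]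

theorem ElRow.congr {H : Type*} [Group H] (e : G ≃* H) {r : ℕ} (h : ElRow r H) : ElRow r G :=
  fun _ hα hE => h _ (hα.congr e) (hE.congr e)

/-- `r` does not divide `|C_G(α)|`. -/
theorem EL.not_dvd_fix [Finite G] {r : ℕ} [hr : Fact r.Prime] {α : MulAut G} (h : EL r α) :
    ¬ r ∣ Nat.card (fixA α) := by
  intro hd
  obtain ⟨x, hx⟩ := exists_prime_orderOf_dvd_card' r hd
  have h1 := h (zpowers x.1) (IsPGroup.of_card (n := 1) (by
    rw [Nat.card_zpowers, pow_one, ← hx]
    exact orderOf_injective (fixA α).subtype (fixA α).subtype_injective x)) (by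
    rintro _ ⟨i, rfl⟩
    refine ⟨i, ?_⟩
    show x.1 ^ i = α (x.1 ^ i)
    rw [map_zpow, mem_fixA.1 x.2])
  rw [zpowers_eq_bot] at h1
  have h2 : x = 1 := Subtype.ext h1
  rw [h2, orderOf_one] at hx
  exact hr.out.one_lt.ne hx

/-- `M = [M, α] C_M(α)` : the elements of order prime to ... are in `[M, α]`. -/
theorem CCP.index_dvd [Finite G] {α : MulAut G} (h : CCP α) {M : Subgroup G} (hM : ∀ m ∈ M, α m ∈ M) :
    ∀ m ∈ M, ∃ c ∈ M, α c = c ∧ c⁻¹ * m ∈ cM α M := by
  intro m hm
  obtain ⟨c, g, hc, e⟩ := (h.res M hM) ⟨m, hm⟩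
  refine ⟨c.1, c.2, congrArg Subtype.val hc, ?_⟩
  have e' : m = c.1 * (g.1⁻¹ * α g.1) := congrArg Subtype.val e
  rw [e', inv_mul_cancel_left]
  exact mem_cM α g.2

/-- In an elliptic configuration the `r`-elements of `M` are in `[M, α]`. -/
theorem CCP.relem_mem [Finite G] {α : MulAut G} (h : CCP α) {r : ℕ} [hr : Fact r.Prime]
    (hrC : ¬ r ∣ Nat.card (fixA α)) {M : Subgroup G} (hM : ∀ m ∈ M, α m ∈ M) {x : G} (hx : x ∈ M)
    (hxr : ∃ k : ℕ, x ^ r ^ k = 1) : x ∈ cM α M := by
  -- the quotient `M/[M, α]` is an `r'`-group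
  let N : Subgroup ↥M := cG (resA α M hM)
  have hN : N.Normal := cG_normal _
  have hNmem : ∀ y : ↥M, y ∈ N ↔ (y : G) ∈ cM α M := by
    intro y
    rw [← map_cG_resA α M hM]
    constructor
    · intro hy
      exact ⟨y, hy, rfl⟩
    · rintro ⟨z, hz, e⟩
      have : z = y := Subtype.ext e
      rwa [← this]
  -- a surjection from `C_M(α)`
  let C : Subgroup ↥M := (fixA α).subgroupOf M
  have hsur : Function.Surjective ((QuotientGroup.mk' N).comp C.subtype) := by
    intro q
    obtain ⟨m, rfl⟩ := QuotientGroup.mk_surjective q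
    obtain ⟨c, hcM, hc, hm⟩ := h.index_dvd hM m.1 m.2
    refine ⟨⟨⟨c, hcM⟩, hc⟩, ?_⟩
    show (QuotientGroup.mk (⟨c, hcM⟩ : ↥M) : ↥M ⧸ N) = QuotientGroup.mk m
    rw [QuotientGroup.eq, hNmem]
    exact hm
  have hcard : ¬ r ∣ Nat.card (↥M ⧸ N) := by
    intro hd
    apply hrC
    refine hd.trans ((card_dvd_of_surjective _ hsur).trans ?_)
    exact card_dvd_of_injective ((M.subtype.comp C.subtype).codRestrict (fixA α) fun y => y.2)
      (fun a b hab => Subtype.ext (Subtype.ext (congrArg (fun z : ↥(fixA α) => (z : G)) hab)))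
  obtain ⟨k, hk⟩ := hxr
  rw [← hNmem ⟨x, hx⟩, ← QuotientGroup.eq_one_iff]
  have h1 : orderOf (QuotientGroup.mk (⟨x, hx⟩ : ↥M) : ↥M ⧸ N) ∣ r ^ k := by
    apply orderOf_dvd_of_pow_eq_one
    rw [← QuotientGroup.mk_pow]
    have : (⟨x, hx⟩ : ↥M) ^ r ^ k = 1 := Subtype.ext hk
    rw [this]
    rfl
  have h2 : orderOf (QuotientGroup.mk (⟨x, hx⟩ : ↥M) : ↥M ⧸ N) ∣ Nat.card (↥M ⧸ N) := orderOf_dvd_natCard _
  have h3 : (r ^ k).Coprime (Nat.card (↥M ⧸ N)) := Nat.Coprime.pow_left k ((Nat.Prime.coprime_iff_not_dvd hr.out).2 hcard)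
  have h4 := Nat.dvd_gcd h1 h2
  rw [h3] at h4
  exact orderOf_eq_one_iff.1 (Nat.dvd_one.1 h4)

/-- `[C_G(z), α] = [C_G(z), x]` for `α = z x`. -/
theorem cM_fix_eq {α x z : MulAut G} (hx : Commute x z) (hα : α = z * x) : cM α (fixA z) = cM x (fixA z) := by
  unfold cM
  congr 1
  ext y
  constructor
  · rintro ⟨m, hm, rfl⟩
    refine ⟨m, hm, ?_⟩
    rw [hα, MulAut.mul_apply, mem_fixA.1 (Cfg.fixA_inv hx.symm m hm)]
  · rintro ⟨m, hm, rfl⟩
    refine ⟨m, hm, ?_⟩
    rw [hα, MulAut.mul_apply, mem_fixA.1 (Cfg.fixA_inv hx.symm m hm)]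

/-- **(F6)** In an elliptic configuration `r` does not divide `|C_G(z)|`, `α = z x`, `x` a `p`-element, `x, z ∈ ⟨α⟩`. -/
theorem Cfg.not_dvd_fix [Finite G] {α : MulAut G} (h : Cfg α) {r : ℕ} [hr : Fact r.Prime] (hE : EL r α)
    {p : ℕ} [hp : Fact p.Prime] {x z : MulAut G} (hx : x ∈ zpowers α)
    (hz : z ∈ zpowers α) (hα : α = z * x) (hxp : ∃ k : ℕ, orderOf x = p ^ k) : ¬ r ∣ Nat.card (fixA z) := by
  have hzα : Commute z α := comm_zpowers hz (mem_zpowers α)
  have hM : ∀ m ∈ fixA z, α m ∈ fixA z := fixA_inv hzα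
  have hzx : Commute x z := comm_zpowers hx hz
  have hMx : ∀ m ∈ fixA z, x m ∈ fixA z := fixA_inv hzx.symm
  have h1 := h.pprime hx hz hα hxp
  have hK : ∀ m ∈ cM x (fixA z), x m ∈ cM x (fixA z) := by
    intro m hm
    rw [← map_cG_resA x (fixA z) hMx] at hm ⊢
    obtain ⟨y, hy, rfl⟩ := hm
    exact ⟨_, cG_inv _ y hy, rfl⟩
  set K := cM x (fixA z) with hKdef
  -- an invariant Sylow `r`-subgroup of `K`
  have hc : (Nat.card (zpowers (resA x K hK))).Coprime (Nat.card K) := by
    rw [Nat.card_zpowers]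
    obtain ⟨k, hk⟩ := hxp
    have h2 : orderOf (resA x K hK) ∣ p ^ k := hk ▸ orderOf_resA_dvd x K hK
    exact Nat.Coprime.coprime_dvd_left h2 (Nat.Coprime.pow_left k h1.symm)
  obtain ⟨P, hP⟩ := Cfsg.Agent.H566.exists_sylow_stab (A := zpowers (resA x K hK)) hc inferInstance r
  have hPx : ∀ m ∈ (P : Subgroup ↥K), resA x K hK m ∈ (P : Subgroup ↥K) := hP _ (mem_zpowers _)
  have hR := hE ((P : Subgroup ↥K).map K.subtype) (P.isPGroup'.map _) (by
    rintro _ ⟨m, hm, rfl⟩
    refine ⟨_, hPx m hm, ?_⟩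
    show x m.1 = α m.1
    rw [hα, MulAut.mul_apply]
    have h3 : (x m.1 : G) ∈ fixA z := hMx _ (cM_le x hMx m.2)
    exact (mem_fixA.1 h3).symm)
  have hPb : (P : Subgroup ↥K) = ⊥ := by
    rw [← map_eq_bot_iff_of_injective _ K.subtype_injective]
    exact hR
  have hrK : ¬ r ∣ Nat.card K := by
    intro hd
    have h3 := P.dvd_card_of_dvd_card hd
    rw [hPb, card_bot] at h3
    exact hr.out.one_lt.ne' (Nat.dvd_one.1 h3)
  intro hd
  obtain ⟨y, hy⟩ := exists_prime_orderOf_dvd_card' r hd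
  have hy1 : (y : G) ^ r ^ 1 = 1 := by
    have h4 : y ^ r = 1 := by rw [← hy]; exact pow_orderOf_eq_one y
    rw [pow_one]
    exact congrArg Subtype.val h4
  have h3 : (y : G) ∈ cM α (fixA z) := h.ccp.relem_mem hE.not_dvd_fix hM y.2 ⟨1, hy1⟩
  rw [cM_fix_eq hzx hα] at h3
  apply hrK
  rw [← hy]
  have h4 : orderOf (⟨y.1, h3⟩ : ↥K) = orderOf y := by
    rw [← orderOf_injective K.subtype K.subtype_injective ⟨y.1, h3⟩,
      ← orderOf_injective (fixA z).subtype (fixA z).subtype_injective y]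
    rfl
  rw [← h4]
  exact orderOf_dvd_natCard _

/-- An `r`-automorphism of a group of order divisible by `r` has nontrivial fixed `r`-elements. -/
theorem dvd_fixA_of_relem [Finite G] {r : ℕ} [hr : Fact r.Prime] (hrG : r ∣ Nat.card G) {z : MulAut G}
    (hz : ∃ k : ℕ, orderOf z = r ^ k) : r ∣ Nat.card (fixA z) := by
  obtain ⟨k, hk⟩ := hz
  have hzp : IsPGroup r (zpowers z) := IsPGroup.of_card (n := k) (by rw [Nat.card_zpowers, hk])
  have h1 : ¬ r ∣ Nat.card (Sylow r G) := not_dvd_card_sylow r G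
  obtain ⟨P, hP⟩ := hzp.nonempty_fixed_point_of_prime_not_dvd_card (Sylow r G) h1
  have hPz : ∀ m ∈ (P : Subgroup G), z m ∈ (P : Subgroup G) := by
    intro m hm
    have h2 := hP ⟨z, mem_zpowers z⟩
    have h3 : z m ∈ (((⟨z, mem_zpowers z⟩ : zpowers z) • P : Sylow r G) : Subgroup G) :=
      Subgroup.smul_mem_pointwise_smul m z (P : Subgroup G) hm
    rw [h2] at h3
    exact h3
  let β := resA z (P : Subgroup G) hPz
  have hβ : IsPGroup r (zpowers β) := by
    obtain ⟨j, -, hj⟩ := (Nat.dvd_prime_pow hr.out).1 (hk ▸ orderOf_resA_dvd z (P : Subgroup G) hPz)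
    exact IsPGroup.of_card (n := j) (by rw [Nat.card_zpowers, hj])
  have hPd : r ∣ Nat.card (P : Subgroup G) := P.dvd_card_of_dvd_card hrG
  have h1f : (1 : ↥(P : Subgroup G)) ∈ MulAction.fixedPoints (zpowers β) ↥(P : Subgroup G) := by
    intro y
    exact smul_one y
  obtain ⟨b, hb, hb1⟩ := hβ.exists_fixed_point_of_prime_dvd_card_of_fixed_point ↥(P : Subgroup G) hPd h1f
  have hbf : z b.1 = b.1 := by
    have h2 := hb ⟨β, mem_zpowers β⟩
    exact congrArg Subtype.val h2
  obtain ⟨j, hj⟩ := (IsPGroup.iff_orderOf.1 P.isPGroup') b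
  have hj0 : j ≠ 0 := by
    rintro rfl
    rw [pow_zero, orderOf_eq_one_iff] at hj
    exact hb1 hj.symm
  have h2 : r ∣ orderOf b.1 := by
    have h3 : orderOf b.1 = orderOf b := orderOf_injective (P : Subgroup G).subtype (subtype_injective _) b
    rw [h3, hj]
    exact dvd_pow_self r hj0
  refine h2.trans ?_
  have h3 : orderOf (⟨b.1, hbf⟩ : ↥(fixA z)) = orderOf b.1 :=
    (orderOf_injective (fixA z).subtype (fixA z).subtype_injective ⟨b.1, hbf⟩).symm
  rw [← h3]
  exact orderOf_dvd_natCard _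

/-- the `p`-part of `α` -/
theorem exists_ppart [Finite G] (α : MulAut G) (p : ℕ) [hp : Fact p.Prime] :
    ∃ x z : MulAut G, x ∈ zpowers α ∧ z ∈ zpowers α ∧ α = z * x ∧ (∃ k : ℕ, orderOf x = p ^ k) ∧
      ¬ p ∣ orderOf z ∧ (orderOf z ∣ orderOf α) := by
  have hn : orderOf α ≠ 0 := (orderOf_pos α).ne'
  obtain ⟨k, m, hm, e⟩ := Nat.exists_eq_pow_mul_and_not_dvd hn p hp.out.ne_one
  have hcop : (p ^ k).Coprime m := Nat.Coprime.pow_left k ((Nat.Prime.coprime_iff_not_dvd hp.out).2 hm)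
  -- `a p^k + b m = 1`
  have hbez : (p ^ k : ℤ) * Nat.gcdA (p ^ k) m + (m : ℤ) * Nat.gcdB (p ^ k) m = 1 := by
    have := Nat.gcd_eq_gcd_ab (p ^ k) m
    rw [hcop] at this
    push_cast at this
    linarith
  refine ⟨α ^ ((m : ℤ) * Nat.gcdB (p ^ k) m), α ^ ((p ^ k : ℤ) * Nat.gcdA (p ^ k) m), ⟨_, rfl⟩, ⟨_, rfl⟩, ?_, ?_, ?_, ?_⟩
  · rw [← zpow_add, hbez, zpow_one]
  · have h1 : orderOf (α ^ ((m : ℤ) * Nat.gcdB (p ^ k) m)) ∣ p ^ k := by
      apply orderOf_dvd_of_pow_eq_one
      rw [← zpow_natCast, ← zpow_mul]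
      have h2 : (m : ℤ) * Nat.gcdB (p ^ k) m * ((p ^ k : ℕ) : ℤ) = (orderOf α : ℤ) * Nat.gcdB (p ^ k) m := by
        rw [e]; push_cast; ring
      rw [h2, zpow_mul, zpow_natCast, pow_orderOf_eq_one, one_zpow]
    obtain ⟨j, -, hj⟩ := (Nat.dvd_prime_pow hp.out).1 h1
    exact ⟨j, hj⟩
  · intro hd
    have h1 : orderOf (α ^ ((p ^ k : ℤ) * Nat.gcdA (p ^ k) m)) ∣ m := by
      apply orderOf_dvd_of_pow_eq_one
      rw [← zpow_natCast, ← zpow_mul]
      have h2 : (p ^ k : ℤ) * Nat.gcdA (p ^ k) m * (m : ℤ) = (orderOf α : ℤ) * Nat.gcdA (p ^ k) m := by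
        rw [e]; push_cast; ring
      rw [h2, zpow_mul, zpow_natCast, pow_orderOf_eq_one, one_zpow]
    exact hm (hd.trans h1)
  · apply orderOf_dvd_of_pow_eq_one
    rw [← zpow_natCast, ← zpow_mul, mul_comm, zpow_mul, zpow_natCast, pow_orderOf_eq_one, one_zpow]

/-- elements of prime order in `⟨α⟩` -/
theorem exists_prime_order [Finite G] {α : MulAut G} {p : ℕ} (hp : p.Prime) (hd : p ∣ orderOf α) :
    ∃ y ∈ zpowers α, orderOf y = p := by
  refine ⟨α ^ (orderOf α / p), pow_mem (mem_zpowers α) _, ?_⟩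
  exact orderOf_pow_orderOf_div (orderOf_pos α).ne' hd

/-- The order of `α` has a prime divisor different from `q ∣ |G|`. -/
theorem Cfg.exists_prime_ne [Finite G] {α : MulAut G} (h : Cfg α) {q : ℕ} (hq : q.Prime) (hqG : q ∣ Nat.card G) :
    ∃ p : ℕ, p.Prime ∧ p ≠ q ∧ p ∣ orderOf α := by
  by_contra hcon
  push Not at hcon
  have : Fact q.Prime := ⟨hq⟩
  have hn : orderOf α ≠ 0 := (orderOf_pos α).ne'
  have h1 := Nat.eq_prime_pow_of_unique_prime_dvd hn (p := q) (fun {d} hd hdα => by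
    by_contra hne
    exact hcon d hd hne hdα)
  exact h.not_primepow hqG _ h1

/-- **(F6)** An elliptic configuration with `|α|` divisible by two primes only: `r ∤ |α|`. -/
theorem Cfg.two_primes [Finite G] {α : MulAut G} (h : Cfg α) {r : ℕ} [hr : Fact r.Prime] (hrG : r ∣ Nat.card G)
    (hE : EL r α) {s : ℕ} [hs : Fact s.Prime]
    (hp : ∀ q : ℕ, q.Prime → q ∣ orderOf α → q = r ∨ q = s) : ¬ r ∣ orderOf α := by
  intro hd
  obtain ⟨x, z, hx, hz, hα, hxs, hzs, hzα⟩ := exists_ppart α s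
  have h1 := h.not_dvd_fix hE hx hz hα hxs
  apply h1
  apply dvd_fixA_of_relem hrG
  have hn : orderOf z ≠ 0 := (orderOf_pos z).ne'
  exact ⟨_, Nat.eq_prime_pow_of_unique_prime_dvd hn (p := r) (fun {d} hd' hdz => by
    rcases hp d hd' (hdz.trans hzα) with h2 | h2
    · exact h2
    · exfalso
      rw [h2] at hdz
      exact hzs hdz)⟩

end Cfsg.Agent.H520
end
end

-- part: H961/CompFac
section
set_option linter.all false
open scoped Cfsg.Agent.FastGrp

/-!
# Composition factors of extensions and of products of simple groups (helper961)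

* `Inv Q` : `Q` is invariant under isomorphism;
* `compK_ext` : extension; `compK_of_sSup` : groups generated by normal nonabelian simple subgroups.
-/

set_option autoImplicit false

namespace Cfsg.Agent.H961.CompFac

open Subgroup Cfsg
open Cfsg.Agent.H566 (NSim)

universe u

/-- invariance under isomorphism -/
def Inv (Q : ∀ (X : Type u) [Group X], Prop) : Prop :=
  ∀ (X Y : Type u) [Group X] [Group Y], X ≃* Y → Q X → Q Y

variable {Q : ∀ (X : Type u) [Group X], Prop}

/-- images of subnormal subgroups -/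
theorem compK_iff (hQ : Inv Q) {G : Type u} [Group G] :
    IsCompositionKGroupWith Q G ↔ ∀ (H : Subgroup G), H.IsSubnormal → ∀ (S : Type u) [Group S] [IsSimpleGroup S],
      (¬ ∀ a b : S, a * b = b * a) → ∀ f : H →* S, Function.Surjective f → Q S := by
  constructor
  · intro h H hH S _ _ hna f hf
    let e : H ⧸ f.ker ≃* S := QuotientGroup.quotientKerEquivOfSurjective f hf
    refine hQ _ _ e (h H hH f.ker e.isSimpleGroup ?_)
    intro hc
    apply hna
    intro a b
    apply e.symm.injective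
    rw [map_mul, map_mul]
    exact hc.is_comm.comm _ _
  · intro h H hH N hN hs hna
    refine h H hH (H ⧸ N) ?_ (QuotientGroup.mk' N) (QuotientGroup.mk'_surjective N)
    intro hc
    exact hna ⟨⟨hc⟩⟩

/-- **Extensions.** -/
theorem compK_ext (hQ : Inv Q) {G : Type u} [Group G] (N : Subgroup G) [N.Normal]
    (h1 : IsCompositionKGroupWith Q N) (h2 : IsCompositionKGroupWith Q (G ⧸ N)) : IsCompositionKGroupWith Q G := by
  rw [compK_iff hQ] at h1 h2 ⊢
  intro H hH S _ _ hna f hf
  have hn : ((N.subgroupOf H).map f).Normal := Subgroup.Normal.map inferInstance f hf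
  rcases hn.eq_bot_or_eq_top with h | h
  · -- `f` factors through the image of `H` in `G ⧸ N`
    let q : H →* (H.map (QuotientGroup.mk' N)) := (QuotientGroup.mk' N).subgroupMap H
    have hq : Function.Surjective q := (QuotientGroup.mk' N).subgroupMap_surjective H
    have hk : q.ker ≤ f.ker := by
      intro x hx
      have hx1 : QuotientGroup.mk' N (x : G) = 1 := congrArg Subtype.val (MonoidHom.mem_ker.1 hx)
      have hx2 : (x : G) ∈ N := (QuotientGroup.eq_one_iff _).1 hx1
      have hx3 : f x ∈ (N.subgroupOf H).map f := ⟨x, hx2, rfl⟩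
      rw [h] at hx3
      exact hx3
    let g : (H.map (QuotientGroup.mk' N)) →* S :=
      q.liftOfRightInverse (Function.surjInv hq) (Function.rightInverse_surjInv hq) ⟨f, hk⟩
    have hg : ∀ x, g (q x) = f x := fun x =>
      MonoidHom.liftOfRightInverse_comp_apply q (Function.surjInv hq) (Function.rightInverse_surjInv hq) ⟨f, hk⟩ x
    refine h2 _ (hH.map (QuotientGroup.mk'_surjective N)) S hna g ?_
    intro s
    obtain ⟨x, rfl⟩ := hf s
    exact ⟨q x, hg x⟩
  · refine h1 (H.subgroupOf N) hH.subgroupOf S hna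
      (f.comp { toFun := fun x => ⟨(x : N), x.2⟩, map_one' := rfl, map_mul' := fun _ _ => rfl }) ?_
    intro s
    have hs : s ∈ (N.subgroupOf H).map f := by rw [h]; trivial
    obtain ⟨x, hx, rfl⟩ := hs
    exact ⟨⟨⟨(x : G), hx⟩, x.2⟩, rfl⟩

/-- simple groups -/
theorem compK_of_simple (hQ : Inv Q) {G : Type u} [Group G] [IsSimpleGroup G] (h : Q G) :
    IsCompositionKGroupWith Q G := by
  rw [compK_iff hQ]
  intro H hH S _ _ hna f hf
  rcases hH.eq_bot_or_top_of_isSimpleGroup inferInstance with rfl | rfl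
  · exfalso
    apply hna
    intro a b
    obtain ⟨x, rfl⟩ := hf a
    obtain ⟨y, rfl⟩ := hf b
    rw [Subsingleton.elim x y]
  · let g : G →* S := f.comp (Subgroup.topEquiv (G := G)).symm.toMonoidHom
    have hg : Function.Surjective g := hf.comp (Subgroup.topEquiv (G := G)).symm.surjective
    have hgi : Function.Injective g := by
      rw [← MonoidHom.ker_eq_bot_iff]
      rcases (inferInstance : g.ker.Normal).eq_bot_or_eq_top with h1 | h1
      · exact h1
      · exfalso
        apply hna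
        intro a b
        obtain ⟨x, rfl⟩ := hg a
        obtain ⟨y, rfl⟩ := hg b
        have hx : x ∈ g.ker := by rw [h1]; trivial
        have hy : y ∈ g.ker := by rw [h1]; trivial
        rw [MonoidHom.mem_ker.1 hx, MonoidHom.mem_ker.1 hy]
    exact hQ _ _ (MulEquiv.ofBijective g ⟨hgi, hg⟩) h

/-- **Groups generated by normal nonabelian simple subgroups.** -/
theorem compK_of_sSup (hQ : Inv Q) {G : Type u} [Group G] [Finite G]
    (h : sSup {T : Subgroup G | T ∈ NSim G ∧ Q T} = ⊤) : IsCompositionKGroupWith Q G := by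
  induction hn : Nat.card G using Nat.strong_induction_on generalizing G with
  | _ n ih =>
  subst hn
  by_cases hne : ∃ T : Subgroup G, T ∈ NSim G ∧ Q T
  · obtain ⟨T, hT, hQT⟩ := hne
    have hTn : T.Normal := hT.1
    have hTs : IsSimpleGroup T := hT.2.1
    refine compK_ext hQ T (compK_of_simple hQ hQT) (ih _ ?_ ?_ rfl)
    · have h1 := T.card_mul_index
      rw [Subgroup.index_eq_card] at h1
      have h2 : 1 < Nat.card T := by
        have : Nontrivial T := hTs.toNontrivial
        exact Finite.one_lt_card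
      have h3 : 0 < Nat.card (G ⧸ T) := Nat.card_pos
      nlinarith
    · rw [eq_top_iff]
      have h0 : (⊤ : Subgroup (G ⧸ T)) = (⊤ : Subgroup G).map (QuotientGroup.mk' T) := by
        rw [← MonoidHom.range_eq_map, MonoidHom.range_eq_top.2 (QuotientGroup.mk'_surjective T)]
      rw [h0, ← h, (Subgroup.gc_map_comap (QuotientGroup.mk' T)).l_sSup]
      refine iSup₂_le ?_
      rintro T' ⟨hT', hQT'⟩
      by_cases hTT : T' = T
      · subst hTT
        rw [show T'.map (QuotientGroup.mk' T') = ⊥ from by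
          rw [Subgroup.map_eq_bot_iff, QuotientGroup.ker_mk']]
        exact bot_le
      · refine le_sSup ?_
        have hT'n : T'.Normal := hT'.1
        have hdis : T ⊓ T' = ⊥ := by
          have hni : (T' ⊓ T).Normal := inferInstance
          rcases NSim.eq_or hT' hni inf_le_left with h3 | h3
          · rw [inf_comm]; exact h3
          · rcases NSim.eq_or hT hT'n (inf_eq_left.1 h3) with h4 | h4
            · rw [h4, inf_bot_eq]
            · exact absurd h4 hTT
        let q : T' →* (T'.map (QuotientGroup.mk' T)) := (QuotientGroup.mk' T).subgroupMap T'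
        have hqi : Function.Injective q := by
          rw [injective_iff_map_eq_one]
          intro x hx
          have hx1 : QuotientGroup.mk' T (x : G) = 1 := congrArg Subtype.val hx
          have hx2 : (x : G) ∈ T := (QuotientGroup.eq_one_iff _).1 hx1
          have hx3 : (x : G) ∈ T ⊓ T' := ⟨hx2, x.2⟩
          rw [hdis] at hx3
          exact Subtype.ext (Subgroup.mem_bot.1 hx3)
        let e : T' ≃* (T'.map (QuotientGroup.mk' T)) :=
          MulEquiv.ofBijective q ⟨hqi, (QuotientGroup.mk' T).subgroupMap_surjective T'⟩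
        have hT's : IsSimpleGroup T' := hT'.2.1
        refine ⟨⟨hT'n.map _ (QuotientGroup.mk'_surjective T), e.symm.isSimpleGroup, ?_⟩, hQ _ _ e hQT'⟩
        intro hc
        apply hT'.2.2
        intro a ha b hb
        have h5 : e ⟨a, ha⟩ * e ⟨b, hb⟩ = e ⟨b, hb⟩ * e ⟨a, ha⟩ := Subtype.ext (hc _ (e ⟨a, ha⟩).2 _ (e ⟨b, hb⟩).2)
        rw [← map_mul, ← map_mul] at h5
        exact congrArg Subtype.val (e.injective h5)
  · have h1 : {T : Subgroup G | T ∈ NSim G ∧ Q T} = ∅ := by
      rw [Set.eq_empty_iff_forall_notMem]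
      exact fun T hT => hne ⟨T, hT⟩
    rw [h1, sSup_empty] at h
    rw [compK_iff hQ]
    intro H hH S _ _ hna f hf
    exfalso
    apply hna
    intro a b
    obtain ⟨x, rfl⟩ := hf a
    obtain ⟨y, rfl⟩ := hf b
    have hsub : ∀ z : G, z = 1 := fun z => by
      have : z ∈ (⊥ : Subgroup G) := by rw [h]; trivial
      exact Subgroup.mem_bot.1 this
    have hx : x = 1 := Subtype.ext (hsub _)
    have hy : y = 1 := Subtype.ext (hsub _)
    rw [hx, hy]

end Cfsg.Agent.H961.CompFac
end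
end
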