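import Mathlib
import Cfsg.Agent.H566.BNPerm_m3
import Cfsg.Agent.Schreier.TwFFour
import Cfsg.Agent.FastGrp
import Cfsg.Agent.Prune
set_option linter.all false
prune_inst 0x7f00000000000000000000000000000000000000000000000000000000000000000000000000000000000000000000000000000000000000000000000000000000000000000000000000000000000000003fffffffffffffffffffffffffffbeffbdffffffff
open scoped Cfsg.Agent.FastGrp

/-!
# `²F₄(q)` has rich coprime fixed points (helper566)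
-/

set_option autoImplicit false
set_option linter.unusedSectionVars false

namespace Cfsg.Agent.H566

open Cfsg.Lie
open Cfsg.Agent.ChevalleyStructure.TwF4.Rel
open Cfsg.Agent.ChevalleyStructure.TwF4.Groups Cfsg.Agent.ChevalleyStructure.TwF4.RankOne
open Cfsg.Agent.ChevalleyStructure.TwF4.Twisted Cfsg.Agent.ChevalleyStructure.TwF4.TwistedFix
open Cfsg.Agent.ChevalleyStructure.TwF4.BN
open Cfsg.Agent.ChevalleyStructure.TwF4.Torus (T chi T_conj_X T_inr)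
open Cfsg.Agent.ChevalleyStructure.TwF4.TwGen (tc chi_tc_24 chi_tc_25 chi_tc_33 chi_tc_27 chi28 chi30 pow_all)
open Cfsg.Agent.ChevalleyStructure.TwF4.TorusFix (mem_iff pow_unit T_rt rt)
open Cfsg.Agent.ChevalleyStructure.TwF4.Fix (Fix)
open Cfsg.Agent.Schreier.Basic Cfsg.Agent.Schreier.Tools Cfsg.Agent.Schreier.BNSch Cfsg.Agent.Schreier.BNUse
open Cfsg.Agent.Schreier.TwFFour

theorem copRich_twF4 {K : Type*} [Field K] [Fintype K] {m : ℕ} (hK : Fintype.card K = 2 ^ (2 * m + 1))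
    [Finite ↥(twistedF4 K (2 ^ m))] (h2 : 2 ∣ Nat.card ↥(twistedF4 K (2 ^ m))) : CopRich ↥(twistedF4 K (2 ^ m)) := by
  have : CharP K 2 := charP_two hK
  have : Fact (Nat.Prime 2) := ⟨Nat.prime_two⟩
  obtain ⟨φ, hφ⟩ := exists_rln hK
  obtain ⟨P, hPB, hPN, hPS⟩ := exists_bnPair hφ
  have hB : P.B = B0 K (2 ^ m) := hPB
  have hdec := dec hK hφ
  have hUp := isPGroup_U0 hK
  have hone : ∀ i : Fin 2, (twistedData hφ).nG i ∈ P.S := fun i => by rw [hPS]; exact ⟨i, rfl⟩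
  refine copRich_of_bn' P (p := 2) (U0 K (2 ^ m)) hUp h2 ?_ ?_ ?_ (2 ^ (2 * m + 1) - 1) ?_ ?_ ?_ (s := (twistedData hφ).nG 0)
    (hone 0) (node1 hφ hB) ?_ (Z := U0 K (2 ^ m)) le_rfl (fun _ h => h) ?_
  · rw [hB]; exact U0_le_B0
  · intro b hb u hu
    rw [hB] at hb
    exact conj_U0 hb hu
  · intro b hb
    rw [hB] at hb
    obtain ⟨s, t, u, hu, hbu⟩ := hdec.1 b hb
    refine ⟨u, hu, ?_⟩
    rw [hPN, Subgroup.mem_subgroupOf, Subgroup.coe_mul, Subgroup.coe_inv, hbu, inv_mul_cancel_left]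
    exact Cfsg.Agent.ChevalleyStructure.TwF4.NStruct.T_mem_N _
  · have h1 : 2 ∣ 2 ^ (2 * m + 1) := dvd_pow_self 2 (by omega)
    have h2 : 0 < 2 ^ (2 * m + 1) := by positivity
    omega
  · intro h hh hN
    rw [hPB, Subgroup.mem_subgroupOf] at hh
    rw [hPN, Subgroup.mem_subgroupOf] at hN
    have h1 := borel_inf_N ⟨hh, hN⟩
    obtain ⟨s, t, hst⟩ := (mem_iff hK (h : GL chevF4.Idx K)).1 ⟨h1, h.2⟩
    apply Subtype.ext
    rw [Subgroup.coe_pow, hst, ← map_pow]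
    have h2 : tc (2 ^ m) s t ^ (2 ^ (2 * m + 1) - 1) = 1 := by
      have h3 : ∀ x : Kˣ, x ^ (2 ^ (2 * m + 1) - 1) = 1 := by
        intro x
        have h4 := pow_card_eq_one' (x := x)
        rwa [Nat.card_units, Nat.card_eq_fintype_card, hK] at h4
      funext l
      rw [Pi.pow_apply, h3]; rfl
    rw [h2, map_one]; rfl
  · intro s hs
    rw [hPS] at hs
    obtain ⟨i, rfl⟩ := hs
    have hi : i = 0 ∨ i = 1 := by
      revert i; decide
    rcases hi with rfl | rfl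
    · exact ⟨V1 K (2 ^ m), node1 hφ hB⟩
    · exact ⟨V8 K (2 ^ m), node2 hφ hB⟩
  · intro A hA hAB
    refine stab_of_card_le_two P ?_ hA hAB (hone 0)
    rw [hPS]
    have : Nat.card (Set.range (twistedData hφ).nG) ≤ Nat.card (Fin 2) :=
      Nat.card_le_card_of_surjective (Set.rangeFactorization _) Set.rangeFactorization_surjective
    rwa [Nat.card_fin] at this
  · have hx : ∀ t : K, xa (2 ^ m) t ∈ twistedF4 K (2 ^ m) := fun t => xa_mem t
    have h1 : (⟨xa (2 ^ m) 1, hx 1⟩ : ↥(twistedF4 K (2 ^ m))) ∉ V1 K (2 ^ m) := fun h =>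
      one_ne_zero (xa_ge2 hφ.pos.ne' h)
    refine ⟨⟨xa (2 ^ m) 1, hx 1⟩, xa_U 1, h1, ⟨xa (2 ^ m) 1, hx 1⟩, xa_U 1, h1, ?_⟩
    intro u hu huV
    left
    obtain ⟨v, hv, t, hvt'⟩ := decomp_a hφ hu u.2
    have hvt : (u : GL chevF4.Idx K) = v * xa (2 ^ m) t := hvt'
    have ht : t ≠ 0 := by
      rintro rfl
      apply huV
      have h3 : xa (2 ^ m) (0 : K) = 1 := by
        have := xa_add hφ (0 : K) 0
        rw [add_zero] at this
        exact (mul_eq_left.1 this.symm)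
      show (u : GL chevF4.Idx K) ∈ GA K (geB 2)
      rw [hvt, h3, mul_one]
      exact hv
    have hTm : T (tc (2 ^ m) (Units.mk0 t ht)⁻¹ 1) ∈ twistedF4 K (2 ^ m) := hdec.2 _ _
    refine ⟨⟨T (tc (2 ^ m) (Units.mk0 t ht)⁻¹ 1), hTm⟩, ?_, ?_⟩
    · rw [hB]
      exact T_mem_borel _
    · show (T (tc (2 ^ m) (Units.mk0 t ht)⁻¹ 1) * xa (2 ^ m) 1 * (T (tc (2 ^ m) (Units.mk0 t ht)⁻¹ 1))⁻¹)⁻¹ *
        (u : GL chevF4.Idx K) ∈ GA K (geB 2)
      rw [exists_T_a, Units.val_mk0, mul_one, hvt]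
      have h4 : (xa (2 ^ m) t)⁻¹ * (v * xa (2 ^ m) t) = (xa (2 ^ m) t)⁻¹ * v * (xa (2 ^ m) t)⁻¹⁻¹ := by group
      rw [h4]
      exact norm_ge2 (inv_mem (xa_U t)) hv

end Cfsg.Agent.H566
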